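import Mathlib
import Cfsg.Agent.Lib.StSL.Split

/-!
Elementary facts on central extensions used for the multipliers of the symplectic groups: lifts of the
centraliser of a lift, invariance of commutators, the transfer between subgroups.
-/

set_option autoImplicit false
set_option linter.unusedSectionVars false

namespace CfsgLib.SpCover

open scoped commutatorElement

universe u v

variable {Γ : Type u} {G : Type v} [Group Γ] [Group G] {σ : Γ →* G}

/-- The elements having a lift that commutes with `x`. -/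
def Cl (σ : Γ →* G) (x : Γ) : Subgroup G := (Subgroup.centralizer {x}).map σ

variable (hc : σ.ker ≤ Subgroup.center Γ)
include hc

theorem ker_comm {z : Γ} (hz : σ z = 1) (g : Γ) : Commute g z :=
  Subgroup.mem_center_iff.mp (hc hz) g

theorem commute_congr {a a' b b' : Γ} (ha : σ a = σ a') (hb : σ b = σ b') (h : Commute a b) : Commute a' b' := by
  rw [← commutatorElement_eq_one_iff_commute] at h ⊢
  rwa [← CfsgLib.StSL.comm_congr hc ha hb]

theorem commute_of_mem_Cl {x y : Γ} (h : σ y ∈ Cl σ x) : Commute x y := by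
  obtain ⟨y', hy', he⟩ := h
  exact commute_congr hc rfl he (Subgroup.mem_centralizer_singleton_iff.mp hy').symm

theorem mem_Cl_iff {x y : Γ} : σ y ∈ Cl σ x ↔ Commute x y :=
  ⟨commute_of_mem_Cl hc, fun h => ⟨y, Subgroup.mem_centralizer_singleton_iff.mpr h.symm, rfl⟩⟩

theorem comm_mem_ker {x y : Γ} (h : Commute (σ x) (σ y)) : σ ⁅x, y⁆ = 1 := by
  rw [map_commutatorElement, commutatorElement_eq_one_iff_commute]; exact h

/-- Commutators of lifts of elements commuting with the image of `x` commute with `x`. -/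
theorem commutator_mem_Cl {x a b : Γ} (ha : Commute (σ x) (σ a)) (hb : Commute (σ x) (σ b)) :
    σ ⁅a, b⁆ ∈ Cl σ x := by
  rw [mem_Cl_iff hc]
  have e : x * ⁅a, b⁆ * x⁻¹ = ⁅x * a * x⁻¹, x * b * x⁻¹⁆ := by
    simp only [commutatorElement_def]; group
  have e' : ⁅x * a * x⁻¹, x * b * x⁻¹⁆ = ⁅a, b⁆ :=
    CfsgLib.StSL.comm_congr hc (by rw [map_mul, map_mul, map_inv, ha.eq, mul_inv_cancel_right])
      (by rw [map_mul, map_mul, map_inv, hb.eq, mul_inv_cancel_right])
  rw [e'] at e
  exact mul_inv_eq_iff_eq_mul.mp e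

theorem comm_invariant {d x y x' y' : Γ} (h : Commute (σ x) (σ y)) (hx : σ x' = σ (d * x * d⁻¹))
    (hy : σ y' = σ (d * y * d⁻¹)) : ⁅x', y'⁆ = ⁅x, y⁆ := by
  rw [CfsgLib.StSL.comm_congr hc hx hy]
  calc ⁅d * x * d⁻¹, d * y * d⁻¹⁆ = d * ⁅x, y⁆ * d⁻¹ := by simp only [commutatorElement_def]; group
    _ = ⁅x, y⁆ := by rw [(ker_comm hc (comm_mem_ker hc h) d).eq, mul_inv_cancel_right]

/-- Commutators are multiplicative in the first argument when they lie in the centre. -/
theorem comm_left_mul {x x' y y' xx : Γ} (hxx : σ xx = σ (x * x')) (hy : σ y' = σ y)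
    (hx : Commute (σ x) (σ y)) (hx' : Commute (σ x') (σ y)) : ⁅xx, y'⁆ = ⁅x, y⁆ * ⁅x', y⁆ := by
  rw [CfsgLib.StSL.comm_congr hc hxx hy]
  calc ⁅x * x', y⁆ = x * ⁅x', y⁆ * x⁻¹ * ⁅x, y⁆ := by simp only [commutatorElement_def]; group
    _ = ⁅x, y⁆ * ⁅x', y⁆ := by
      rw [(ker_comm hc (comm_mem_ker hc hx') x).eq, mul_inv_cancel_right,
        (ker_comm hc (comm_mem_ker hc hx) ⁅x', y⁆).eq]

omit hc in
theorem eq_one_of_coprime {z : Γ} {a b : ℕ} (h : a.Coprime b) (ha : z ^ a = 1) (hb : z ^ b = 1) : z = 1 := by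
  rw [← orderOf_eq_one_iff]
  exact Nat.dvd_one.mp (h ▸ Nat.dvd_gcd (orderOf_dvd_of_pow_eq_one ha) (orderOf_dvd_of_pow_eq_one hb))

omit hc in
/-- The transfer between two subgroups. -/
theorem pow_relIndex_mem [Finite Γ] {P H : Subgroup Γ} (hPH : P ≤ H) {z : Γ} (hzc : z ∈ Subgroup.center Γ)
    (hzP : z ∈ P) (hz : z ∈ ⁅H, H⁆) : z ^ P.relIndex H ∈ ⁅P, P⁆ := by
  obtain ⟨z', hz'⟩ : ∃ z' : H, z' = ⟨z, hPH hzP⟩ := ⟨_, rfl⟩
  have hzc' : z' ∈ Subgroup.center H := by
    rw [Subgroup.mem_center_iff]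
    exact fun g => Subtype.ext (by rw [hz']; exact Subgroup.mem_center_iff.mp hzc g.1)
  have hcm : z' ∈ commutator H := by
    rw [← Subgroup.map_subtype_commutator] at hz
    obtain ⟨w, hw, hwz⟩ := hz
    rwa [show z' = w from Subtype.ext (by rw [hz']; exact hwz.symm)]
  have hzP' : z' ∈ P.subgroupOf H := by rw [Subgroup.mem_subgroupOf, hz']; exact hzP
  have key : ∀ (k : ℕ) (g₀ : H), g₀⁻¹ * z' ^ k * g₀ ∈ P.subgroupOf H → g₀⁻¹ * z' ^ k * g₀ = z' ^ k :=
    fun k g₀ _ => by
      rw [mul_assoc, ← Subgroup.mem_center_iff.mp ((Subgroup.center H).pow_mem hzc' k) g₀, inv_mul_cancel_left]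
  have h1 : MonoidHom.transfer (Abelianization.of : P.subgroupOf H →* Abelianization (P.subgroupOf H)) z' = 1 := by
    have : commutator H ≤ (MonoidHom.transfer
        (Abelianization.of : P.subgroupOf H →* Abelianization (P.subgroupOf H))).ker :=
      Abelianization.commutator_subset_ker _
    exact this hcm
  rw [MonoidHom.transfer_eq_pow _ _ key, ← MonoidHom.mem_ker, Abelianization.ker_of] at h1
  have h2 := Subgroup.mem_map_of_mem (H.subtype.comp (P.subgroupOf H).subtype) h1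
  rw [commutator_def, Subgroup.map_commutator, ← MonoidHom.range_eq_map, MonoidHom.range_comp,
    Subgroup.range_subtype, Subgroup.subgroupOf_map_subtype, inf_eq_left.mpr hPH] at h2
  subst hz'
  exact h2

end CfsgLib.SpCover
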