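import Cfsg.Agent.Lib.SpCover.Geom
import Cfsg.Agent.Lib.SpCover.Central

/-!
Lifts of transvections along orthogonal vectors commute in a central extension of the symplectic group,
for at least three field elements or rank at least four.
-/

set_option autoImplicit false
set_option linter.unusedSectionVars false

namespace CfsgLib.SpCover

open Matrix
open scoped commutatorElement
open CfsgLib.SympGen (B B_self B_swap B_add_left B_add_right B_sub_left B_sub_right B_smul_left
  B_smul_right B_map tv_apply conj_tv tv_smul tv_add)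
open CfsgLib.SympTransvection (tv)
open CfsgLib.SympSimple (ext_apply tv_zero tv_zero_vec tv_inv)

universe u v

variable {F : Type u} [Field F] [Finite F] {m : ℕ} {Γ : Type v} [Group Γ]

local notation "Vec" => (Fin m ⊕ Fin m → F)
local notation "Sp" => Matrix.symplecticGroup (Fin m) F

/-- Lifts of transvections along orthogonal vectors commute. -/
def OrthComm (σ : Γ →* Sp) : Prop :=
  ∀ (u w : Vec) (c d : F), B u w = 0 → ∀ a b : Γ, σ a = tv u c → σ b = tv w d → Commute a b

theorem Eh_comm {e v w : Vec} (hv : B e v = 0) (hwe : B w e = 0) (hwv : B w v = 0) (a c : F) :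
    Commute (tv w c) (Eh e v a) := by
  refine ((tv_comm ?_ c 1).mul_right (tv_comm hwv c (-1))).mul_right (tv_comm hwe c (a - 1))
  rw [B_add_right, hwv, hwe, add_zero]

theorem Eh_commutator {W : Submodule F Vec} {e f u v : Vec} {d : F} (hu : u ∈ cut W e f) (hv : v ∈ cut W e f)
    (huv : B v u = d) (hd : d ≠ 0) : ⁅tv u d⁻¹, Eh e v 0⁆ = Eh e u (-d) := by
  have he : (tv u d⁻¹).1 *ᵥ e = e := by rw [tv_apply, cut_perp_left hu, mul_zero, zero_smul, add_zero]
  have hgv : (tv u d⁻¹).1 *ᵥ v = v + u := by rw [tv_apply, huv, inv_mul_cancel₀ hd, one_smul]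
  have hvu : B e (v + u) = 0 := by rw [B_add_right, cut_perp_left hv, cut_perp_left hu, add_zero]
  rw [commutatorElement_def, Eh_conj, he, hgv, Eh_inv (cut_perp_left hv),
    Eh_mul hvu (by rw [B_neg_right, cut_perp_left hv, neg_zero]), add_neg_cancel_comm]
  congr 1
  rw [B_neg_left, B_add_right, B_self, huv]
  ring

/-- Elements of the unipotent radical obtained as commutators commuting with `x`. -/
theorem Eh_mem_Cl {σ : Γ →* Sp} (hs : Function.Surjective σ) (hc : σ.ker ≤ Subgroup.center Γ)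
    {W : Submodule F Vec} (hW : ND W) {e f : Vec} (he : e ∈ W) (hf : f ∈ W) (h : B e f = 1) {x : Γ} {u₀ : Vec}
    {c : F} (hx : σ x = tv u₀ c) (hu₀ : ∀ w ∈ cut W e f, B u₀ w = 0) (hu₀e : B u₀ e = 0) {u : Vec}
    (hu : u ∈ cut W e f) (hu0 : u ≠ 0) {d : F} (hd : d ≠ 0) : Eh e u (-d) ∈ Cl σ x := by
  obtain ⟨v₁, hv₁, huv₁⟩ := exists_partner (cut_ND hW he hf h) hu hu0
  have hv : (-d) • v₁ ∈ cut W e f := (cut W e f).smul_mem _ hv₁
  have hvu : B ((-d) • v₁) u = d := by rw [B_smul_left, B_swap, huv₁]; ring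
  obtain ⟨a, ha⟩ := hs (tv u d⁻¹)
  obtain ⟨b, hb⟩ := hs (Eh e ((-d) • v₁) 0)
  have := commutator_mem_Cl hc (x := x) (a := a) (b := b)
    (by rw [hx, ha]; exact tv_comm (hu₀ u hu) _ _)
    (by rw [hx, hb]; exact Eh_comm (cut_perp_left hv) hu₀e (hu₀ _ hv) _ _)
  rwa [map_commutatorElement, ha, hb, Eh_commutator hu hv hvu hd] at this

theorem exists_cut_ne {W : Submodule F Vec} {e f : Vec} (he : e ∈ W) (hf : f ∈ W) (h : B e f = 1)
    (hW : Nat.card F ^ 2 < Nat.card W) : ∃ v ∈ cut W e f, v ≠ 0 := by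
  by_contra hcon
  push Not at hcon
  have h1 : cut W e f = ⊥ := (Submodule.eq_bot_iff _).mpr hcon
  have := card_le he hf h
  rw [h1, Nat.card_unique (α := ↥(⊥ : Submodule F Vec)), mul_one] at this
  omega

theorem card_cut_gt {W : Submodule F Vec} {e f : Vec} (he : e ∈ W) (hf : f ∈ W) (h : B e f = 1) {k : ℕ}
    (hW : Nat.card F ^ (k + 2) < Nat.card W) : Nat.card F ^ k < Nat.card (cut W e f) := by
  have h1 := card_le he hf h
  rw [pow_add, mul_comm] at hW
  exact Nat.lt_of_mul_lt_mul_left (lt_of_lt_of_le hW h1)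

theorem card_top : Nat.card (⊤ : Submodule F Vec) = Nat.card F ^ (m + m) := by
  rw [Nat.card_congr Submodule.topEquiv.toEquiv, Nat.card_fun, Nat.card_sum,
    Nat.card_fin]

theorem orth_of_indep (hm4 : 3 ≤ Nat.card F ∨ 4 ≤ m) {σ : Γ →* Sp} (hs : Function.Surjective σ)
    (hc : σ.ker ≤ Subgroup.center Γ) {u w : Vec} (hu : u ≠ 0) (hind : ∀ k : F, w ≠ k • u) (huw : B u w = 0)
    (c d : F) {a b : Γ} (ha : σ a = tv u c) (hb : σ b = tv w d) : Commute a b := by
  classical
  haveI := Fintype.ofFinite F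
  have hq : 1 < Nat.card F := Finite.one_lt_card
  obtain ⟨L, hL⟩ : ∃ L : Sp → Γ, ∀ g, σ (L g) = g := hs.hasRightInverse
  suffices key : ∀ c d : F, ⁅L (tv u c), L (tv w d)⁆ = 1 from
    commute_congr hc (by rw [hL, ha]) (by rw [hL, hb]) (commutatorElement_eq_one_iff_commute.mp (key c d))
  have com : ∀ c d : F, Commute (σ (L (tv u c))) (σ (L (tv w d))) := fun c d => by
    rw [hL, hL]; exact tv_comm huw c d
  have add : ∀ c c' d : F, ⁅L (tv u (c + c')), L (tv w d)⁆ = ⁅L (tv u c), L (tv w d)⁆ * ⁅L (tv u c'), L (tv w d)⁆ :=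
    fun c c' d => comm_left_mul hc (by rw [map_mul, hL, hL, hL, tv_add]) rfl (com c d) (com c' d)
  have hone : ∀ d : F, ⁅L (tv u 0), L (tv w d)⁆ = 1 := fun d => by
    rw [CfsgLib.StSL.comm_congr hc (a' := 1) (b' := L (tv w d)) (by rw [hL, tv_zero, map_one]) rfl,
      commutatorElement_one_left]
  have hw : w ≠ 0 := fun h => hind 0 (by rw [h, zero_smul])
  rcases le_or_gt 4 (Nat.card F) with h4 | h4
  · -- a diagonal element scales the first group
    obtain ⟨s, hs0, hs2⟩ := SympSimple.field_cond (F := F) (by rwa [← Nat.card_eq_fintype_card])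
    have hind' : ∀ k : F, w ≠ k • s • u := fun k hk => hind (k * s) (by rw [hk, smul_smul])
    obtain ⟨g, -, hgu, hgw⟩ := orth_pair_in (W := ⊤) ND_top (v := u) (x := w) (v' := s • u) (x' := w) trivial
      trivial trivial trivial hu (smul_ne_zero hs0 hu) hind hind' huw (by rw [B_smul_left, huw, mul_zero])
    intro c d
    have inv : ∀ c, ⁅L (tv u (s ^ 2 * c)), L (tv w d)⁆ = ⁅L (tv u c), L (tv w d)⁆ := fun c =>
      comm_invariant hc (d := L g) (com c d)
        (by rw [hL, map_mul, map_mul, map_inv, hL, hL, conj_tv, hgu, tv_smul])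
        (by rw [hL, map_mul, map_mul, map_inv, hL, hL, conj_tv, hgw])
    have h1 : s ^ 2 - 1 ≠ 0 := sub_ne_zero.mpr hs2
    have h2 := add ((s ^ 2 - 1) * (c / (s ^ 2 - 1))) (c / (s ^ 2 - 1)) d
    rw [show (s ^ 2 - 1) * (c / (s ^ 2 - 1)) + c / (s ^ 2 - 1) = s ^ 2 * (c / (s ^ 2 - 1)) by ring, inv,
      mul_div_cancel₀ _ h1] at h2
    exact right_eq_mul.mp h2
  -- the fields with two and three elements
  have hx : ⁅L (tv u 1), L (tv w 1)⁆ = 1 := by
    rcases (show Nat.card F = 2 ∨ Nat.card F = 3 by omega) with h2 | h3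
    · have hm : 4 ≤ m := by omega
      obtain ⟨f, hf, huf, hwf⟩ := exists_partner_perp (W := ⊤) ND_top (v := u) (x := w) trivial trivial
        fun k hk => by
          have hk0 : k ≠ 0 := fun h => hu (by rw [hk, h, zero_smul])
          exact hind k⁻¹ (by rw [hk, smul_smul, inv_mul_cancel₀ hk0, one_smul])
      have hwU : w ∈ cut ⊤ u f := ⟨trivial, B_symm_zero huw, hwf⟩
      have hU : ND (cut ⊤ u f) := cut_ND ND_top trivial trivial huf
      obtain ⟨f', hf', hwf'⟩ := exists_partner hU hwU hw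
      have hU5 : Nat.card F ^ 5 < Nat.card (cut ⊤ u f) :=
        card_cut_gt (W := ⊤) trivial trivial huf (by rw [card_top]; exact Nat.pow_lt_pow_right hq (by omega))
      have hU3 : Nat.card F ^ 3 < Nat.card (cut (cut ⊤ u f) w f') := card_cut_gt hwU hf' hwf' hU5
      obtain ⟨v, hv, hv0⟩ : ∃ v ∈ cut (cut ⊤ u f) w f', v ≠ 0 := exists_cut_ne hwU hf' hwf'
        (lt_trans (Nat.pow_lt_pow_right hq (by norm_num)) hU5)
      obtain ⟨f'', hf'', hvf''⟩ := exists_partner (cut_ND hU hwU hf' hwf') hv hv0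
      obtain ⟨x, hx, hx0⟩ := exists_cut_ne hv hf'' hvf'' (lt_trans (Nat.pow_lt_pow_right hq (by norm_num)) hU3)
      have hxv : v + x ≠ 0 := fun h => by
        have h' := congrArg (fun y => B y f'') h
        simp only [B_add_left, hvf'', hx.2.2, B_zero_left, add_zero] at h'
        exact one_ne_zero h'
      have hmem : ∀ y ∈ cut (cut ⊤ u f) w f', y ≠ 0 → Eh w y (-1) ∈ Cl σ (L (tv u 1)) := fun y hy hy0 =>
        Eh_mem_Cl hs hc hU hwU hf' hwf' (hL _) (fun z hz => cut_perp_left hz.1) huw hy hy0 one_ne_zero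
      have h1 := mul_mem (hmem v hv hv0) (hmem x hx.1 hx0)
      rw [Eh_mul (cut_perp_left hv) (cut_perp_left hx.1), hx.2.1] at h1
      have h2' := mul_mem (inv_mem h1) (hmem _ ((cut _ w f').add_mem hv hx.1) hxv)
      have hvx : B w (v + x) = 0 := cut_perp_left ((cut _ w f').add_mem hv hx.1)
      have hE : (Eh w (v + x) (-1 + -1 + 0))⁻¹ * Eh w (v + x) (-1) = tv w 1 := by
        rw [Eh_inv hvx, Eh_mul (by rw [B_neg_right, hvx, neg_zero]) hvx, neg_add_cancel, B_neg_right,
          B_self, neg_zero, add_zero, show -(-1 + -1 + (0 : F)) + -1 = 1 by ring, Eh_zero]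
      rw [hE, ← hL (tv w 1)] at h2'
      exact commutatorElement_eq_one_iff_commute.mpr (commute_of_mem_Cl hc h2')
    · -- interchange the two vectors
      have hind' : ∀ k : F, u ≠ k • w := fun k hk => by
        have hk0 : k ≠ 0 := fun h => hu (by rw [hk, h, zero_smul])
        exact hind k⁻¹ (by rw [hk, smul_smul, inv_mul_cancel₀ hk0, one_smul])
      obtain ⟨g, -, hgu, hgw⟩ := orth_pair_in (W := ⊤) ND_top (v := u) (x := w) (v' := w) (x' := u) trivial
        trivial trivial trivial hu hw hind hind' huw (B_symm_zero huw)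
      have hsym : ⁅L (tv w 1), L (tv u 1)⁆ = ⁅L (tv u 1), L (tv w 1)⁆ :=
        comm_invariant hc (d := L g) (com 1 1)
          (by rw [hL, map_mul, map_mul, map_inv, hL, hL, conj_tv, hgu])
          (by rw [hL, map_mul, map_mul, map_inv, hL, hL, conj_tv, hgw])
      have h2 : ⁅L (tv u 1), L (tv w 1)⁆ ^ 2 = 1 := by
        rw [sq]; nth_rw 2 [← hsym]
        rw [← commutatorElement_inv, inv_mul_cancel]
      have h30 : (3 : F) = 0 := by
        have := FiniteField.cast_card_eq_zero F
        rw [← Nat.card_eq_fintype_card, h3] at this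
        exact_mod_cast this
      have h3' : ⁅L (tv u 1), L (tv w 1)⁆ ^ 3 = 1 := by
        rw [pow_succ, sq, ← add 1 1 1, ← add, show (1 : F) + 1 + 1 = 3 by norm_num, h30, hone]
      rw [pow_succ, h2, one_mul] at h3'
      exact h3'
  have hpr : (Nat.card F).Prime := by
    rcases (show Nat.card F = 2 ∨ Nat.card F = 3 by omega) with h | h <;> rw [h] <;> norm_num
  haveI : Fact (Nat.card F).Prime := ⟨hpr⟩
  have hnat : ∀ c : F, ∃ n : ℕ, (n : F) = c := fun c => by
    let e : ZMod (Nat.card F) ≃+* F := ZMod.ringEquivOfPrime F hpr (Nat.card_eq_fintype_card).symm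
    exact ⟨(e.symm c).val, by rw [← map_natCast e, ZMod.natCast_zmod_val, RingEquiv.apply_symm_apply]⟩
  intro c d
  obtain ⟨n, rfl⟩ := hnat c
  obtain ⟨k, rfl⟩ := hnat d
  exact commutatorElement_eq_one_iff_commute.mpr (commute_congr hc (a := L (tv u 1) ^ n) (b := L (tv w 1) ^ k)
    (by rw [map_pow, hL, hL, tv_pow, mul_one]) (by rw [map_pow, hL, hL, tv_pow, mul_one])
    ((commutatorElement_eq_one_iff_commute.mp hx).pow_pow n k))

theorem orth_of_dep (hm : 2 ≤ m) {σ : Γ →* Sp} (hs : Function.Surjective σ) (hc : σ.ker ≤ Subgroup.center Γ)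
    {u : Vec} (hu : u ≠ 0) {c t : F} {a b : Γ} (ha : σ a = tv u c) (hb : σ b = tv u t) : Commute a b := by
  classical
  haveI := Fintype.ofFinite F
  have hq : 1 < Nat.card F := Finite.one_lt_card
  rcases (show Nat.card F = 2 ∨ 3 ≤ Nat.card F by omega) with h2 | h3
  · -- only one nontrivial transvection
    have h01 : ∀ x : F, x = 0 ∨ x = 1 := fun x => by
      by_contra hx
      push Not at hx
      have := Finset.card_le_univ ({0, 1, x} : Finset F)
      rw [Finset.card_insert_of_notMem (by simp [Ne.symm hx.1]), Finset.card_insert_of_notMem (by simp [Ne.symm hx.2]),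
        Finset.card_singleton, ← Nat.card_eq_fintype_card] at this
      omega
    rcases h01 c with rfl | rfl
    · exact ((ker_comm hc (by rw [ha, tv_zero]) b).symm)
    rcases h01 t with rfl | rfl
    · exact ker_comm hc (by rw [hb, tv_zero]) a
    · exact commute_congr hc rfl (by rw [ha, hb]) (Commute.refl a)
  obtain ⟨f, -, huf⟩ := exists_partner (W := ⊤) ND_top trivial hu
  have hbig : Nat.card F ^ 2 < Nat.card (⊤ : Submodule F Vec) := by
    rw [card_top]; exact Nat.pow_lt_pow_right hq (by omega)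
  obtain ⟨u', hu', hu'0⟩ := exists_cut_ne (W := ⊤) trivial trivial huf hbig
  apply commute_of_mem_Cl hc
  rw [hb]
  obtain ⟨d, hd⟩ : ∃ d : F, d ∉ ({0, -t} : Finset F) := by
    by_contra hh
    push Not at hh
    have := Finset.card_le_card (show (Finset.univ : Finset F) ⊆ {0, -t} from fun x _ => hh x)
    rw [Finset.card_univ, ← Nat.card_eq_fintype_card] at this
    exact absurd (this.trans Finset.card_le_two) (by omega)
  simp only [Finset.mem_insert, Finset.mem_singleton, not_or] at hd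
  have hd' : d + t ≠ 0 := fun h => hd.2 (eq_neg_of_add_eq_zero_left h)
  have m1 := Eh_mem_Cl hs hc ND_top trivial trivial huf ha (fun w hw => cut_perp_left hw) (B_self u) hu' hu'0 hd.1
  have m2 := Eh_mem_Cl hs hc ND_top trivial trivial huf ha (fun w hw => cut_perp_left hw) (B_self u) hu' hu'0 hd'
  have := mul_mem m1 (inv_mem m2)
  rwa [Eh_inv (cut_perp_left hu'), Eh_mul (cut_perp_left hu') (by rw [B_neg_right, cut_perp_left hu', neg_zero]),
    add_neg_cancel, B_neg_left, B_self, neg_zero, show -d + - -(d + t) + (0 : F) = t by ring, Eh_zero] at this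

/-- Lifts of orthogonal transvections commute. -/
theorem orthComm_of (hm : 2 ≤ m) (hm4 : 3 ≤ Nat.card F ∨ 4 ≤ m) {σ : Γ →* Sp} (hs : Function.Surjective σ)
    (hc : σ.ker ≤ Subgroup.center Γ) : OrthComm σ := by
  intro u w c d huw a b ha hb
  by_cases hu : u = 0
  · exact (ker_comm hc (by rw [ha, hu, tv_zero_vec]) b).symm
  by_cases hind : ∀ k : F, w ≠ k • u
  · exact orth_of_indep hm4 hs hc hu hind huw c d ha hb
  · push Not at hind
    obtain ⟨k, rfl⟩ := hind
    rw [tv_smul] at hb
    exact orth_of_dep hm hs hc hu ha hb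

end CfsgLib.SpCover
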