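import Cfsg.Agent.Lib.SpCover.Plane
import Cfsg.Agent.Lib.SpCover.Orth

/-!
Central extensions of the symplectic group with kernel of order prime to the characteristic: the group
generated by the lifts of transvections killed by the characteristic meets the kernel trivially.
-/

set_option autoImplicit false
set_option linter.unusedSectionVars false

namespace CfsgLib.SpCover

open Matrix
open scoped commutatorElement
open CfsgLib.SympGen (B B_self B_swap B_add_left B_add_right B_sub_left B_sub_right B_smul_left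
  B_smul_right B_map tv_apply conj_tv tv_smul tv_add)
open CfsgLib.SympTransvection (tv)
open CfsgLib.SympSimple (ext_apply tv_zero tv_zero_vec tv_inv)

universe u

variable {F : Type u} [Field F] [Finite F] {m : ℕ} {Γ : Type u} [Group Γ] [Finite Γ]

local notation "Vec" => (Fin m ⊕ Fin m → F)
local notation "Sp" => Matrix.symplecticGroup (Fin m) F

/-- The group generated by the chosen lifts of the transvections of a subspace. -/
def XW (P : Sp → Γ) (W : Submodule F Vec) : Subgroup Γ :=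
  Subgroup.closure {x | ∃ u ∈ W, ∃ c : F, P (tv u c) = x}

/-- The lifts of the transvections along vectors orthogonal to a given one. -/
def YW (P : Sp → Γ) (W : Submodule F Vec) (e : Vec) : Subgroup Γ :=
  Subgroup.closure {x | ∃ u ∈ W, B u e = 0 ∧ ∃ c : F, P (tv u c) = x}

/-- The lift carrying `x` to `u`. -/
def el (P : Sp → Γ) (x u : Vec) : Γ := P (tv (u - x) (B x u)⁻¹)

theorem tv_split {W : Submodule F Vec} {e f v : Vec} (hv : v ∈ cut W e f) (α c : F) :
    Eh e ((c * α) • v) (c * α ^ 2) * tv v c = tv (v + α • e) c := by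
  refine ext_apply fun x => ?_
  rw [SympGen.mul_apply, tv_apply, Eh_apply (by rw [B_smul_right, cut_perp_left hv, mul_zero]), tv_apply]
  simp only [B_add_left, B_add_right, B_smul_left, B_smul_right, B_self, hv.2.1]
  module

theorem cut_bot_of_plane {W : Submodule F Vec} {a b e f : Vec} (ha : a ∈ W) (hb : b ∈ W) (h : B a b = 1)
    (hcut : cut W a b = ⊥) (he : e ∈ W) (hf : f ∈ W) (h' : B e f = 1) : cut W e f = ⊥ := by
  obtain ⟨g, hg, hge, hgf, -⟩ := pair_in he hf ha hb h' h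
  refine (Submodule.eq_bot_iff _).mpr fun v hv => ?_
  have h1 : g.1 *ᵥ v ∈ cut W a b :=
    ⟨(GW_props hg).2 v hv.1, by rw [← hge, B_map]; exact hv.2.1, by rw [← hgf, B_map]; exact hv.2.2⟩
  rw [hcut, Submodule.mem_bot] at h1
  by_contra hv0
  exact SympSimple.mulVec_ne_zero g hv0 h1

theorem exists_adjacent {W : Submodule F Vec} (hW : ND W) {v w : Vec} (hv : v ∈ W) (hw : w ∈ W)
    (hv0 : v ≠ 0) (hw0 : w ≠ 0) : ∃ z ∈ W, B v z ≠ 0 ∧ B z w ≠ 0 := by
  obtain ⟨a, ha, hva⟩ := exists_partner hW hv hv0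
  obtain ⟨b, hb, hwb⟩ := exists_partner hW hw hw0
  have hbw : B b w ≠ 0 := by rw [B_swap, hwb]; exact neg_ne_zero.mpr one_ne_zero
  by_cases h1 : B a w = 0
  · by_cases h2 : B v b = 0
    · exact ⟨a + b, W.add_mem ha hb, by rw [B_add_right, hva, h2, add_zero]; exact one_ne_zero,
        by rw [B_add_left, h1, zero_add]; exact hbw⟩
    · exact ⟨b, hb, h2, hbw⟩
  · exact ⟨a, ha, by rw [hva]; exact one_ne_zero, h1⟩

theorem exists_span_plane {a b : Vec} (h : B a b = 1) :
    ∃ W : Submodule F Vec, ND W ∧ a ∈ W ∧ b ∈ W ∧ cut W a b = ⊥ ∧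
      ∀ W' : Submodule F Vec, a ∈ W' → b ∈ W' → W ≤ W' := by
  have hba : B b a = -1 := by rw [B_swap, h]
  refine ⟨Submodule.span F {a, b}, ?_, Submodule.subset_span (by simp), Submodule.subset_span (by simp), ?_,
    fun W' ha hb => Submodule.span_le.mpr (by rintro x (rfl | rfl) <;> assumption)⟩
  · intro v hv hperp
    obtain ⟨k, l, rfl⟩ := Submodule.mem_span_pair.mp hv
    have h1 := hperp a (Submodule.subset_span (by simp))
    have h2 := hperp b (Submodule.subset_span (by simp))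
    rw [B_add_left, B_smul_left, B_smul_left, B_self, hba] at h1
    rw [B_add_left, B_smul_left, B_smul_left, B_self, h] at h2
    simp at h1 h2
    rw [h1, h2]; simp
  · refine (Submodule.eq_bot_iff _).mpr fun v hv => ?_
    obtain ⟨k, l, rfl⟩ := Submodule.mem_span_pair.mp hv.1
    have h1 := hv.2.1
    have h2 := hv.2.2
    rw [B_add_left, B_smul_left, B_smul_left, B_self, hba] at h1
    rw [B_add_left, B_smul_left, B_smul_left, B_self, h] at h2
    simp at h1 h2
    rw [h1, h2]; simp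

variable {σ : Γ →* Matrix.symplecticGroup (Fin m) F} (hc : σ.ker ≤ Subgroup.center Γ) {p : ℕ} [CharP F p]
  [Fact p.Prime] (hco : (Nat.card σ.ker).Coprime p) {P : Matrix.symplecticGroup (Fin m) F → Γ}
  (hP : ∀ g, g ^ p = 1 → σ (P g) = g ∧ P g ^ p = 1)

include hP in
theorem t_map (u : Vec) (c : F) : σ (P (tv u c)) = tv u c := (hP _ (tv_pow_char u c)).1

include hP in
theorem el_apply {x u : Vec} (h : B x u ≠ 0) : (σ (el P x u)).1 *ᵥ x = u := by
  rw [el, t_map hP, tv_apply, B_sub_right, B_self, sub_zero, inv_mul_cancel₀ h, one_smul, add_sub_cancel]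

include hP in
theorem XW_map {W : Submodule F Vec} {x : Γ} (hx : x ∈ XW P W) : σ x ∈ GW W :=
  (Subgroup.closure_le ((GW W).comap σ)).mpr (by
    rintro _ ⟨u, hu, c, rfl⟩
    show σ (P (tv u c)) ∈ GW W
    rw [t_map hP]; exact tv_mem_GW hu c) hx

include hP in
theorem GW_lift {W : Submodule F Vec} {g : Sp} (hg : g ∈ GW W) : ∃ x ∈ XW P W, σ x = g :=
  (Subgroup.closure_le ((XW P W).map σ)).mpr (by
    rintro _ ⟨u, hu, c, rfl⟩
    exact ⟨_, Subgroup.subset_closure ⟨u, hu, c, rfl⟩, t_map hP u c⟩) hg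

omit [Finite Γ] in
theorem el_mem {W : Submodule F Vec} {x u : Vec} (hx : x ∈ W) (hu : u ∈ W) : el P x u ∈ XW P W :=
  Subgroup.subset_closure ⟨u - x, W.sub_mem hu hx, _, rfl⟩

include hc hco hP

theorem t_conj (γ : Γ) (u : Vec) (c : F) : γ * P (tv u c) * γ⁻¹ = P (tv ((σ γ).1 *ᵥ u) c) := by
  rw [P_conj hc hco hP (tv_pow_char u c) γ, conj_tv]

theorem el_inv {x u : Vec} : (el P x u)⁻¹ = el P u x := by
  rw [el, el, P_inv hc hco hP (tv_pow_char _ _), tv_inv]
  congr 1
  rw [← neg_sub u x, ← neg_one_smul F (u - x), tv_smul, neg_one_sq, one_mul, B_swap u x, inv_neg]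

/-- Moving the base vector. -/
theorem YW_transport {W : Submodule F Vec} {e x₀ : Vec} {γ : Γ} (hγ : γ ∈ XW P W)
    (hx : (σ γ).1 *ᵥ e = x₀) {η : Γ} (hη : η ∈ YW P W x₀) : γ⁻¹ * η * γ ∈ YW P W e := by
  have := (Subgroup.closure_le ((YW P W e).comap (MulAut.conj γ⁻¹).toMonoidHom)).mpr (by
    rintro _ ⟨u, hu, hue, c, rfl⟩
    show MulAut.conj γ⁻¹ (P (tv u c)) ∈ YW P W e
    rw [MulAut.conj_apply, t_conj hc hco hP]
    refine Subgroup.subset_closure ⟨_, (GW_props (XW_map hP (inv_mem hγ))).2 u hu, ?_, c, rfl⟩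
    rw [← B_map (σ γ), ← SympGen.mul_apply, ← map_mul, mul_inv_cancel, map_one, SympGen.one_apply, hx]
    exact hue) hη
  simpa using this

/-- The triangle property. -/
theorem triangle {W : Submodule F Vec} {e x u : Vec} (he : e ∈ W) (hx : x ∈ W) (hu : u ∈ W)
    (hex : B e x ≠ 0) (hxu : B x u ≠ 0) (heu : B e u ≠ 0) :
    (el P x u * el P e x)⁻¹ * el P e u ∈ YW P W e := by
  suffices key : (el P e u)⁻¹ * el P x u * el P e x ∈ YW P W e by
    have := inv_mem key
    rwa [show ((el P e u)⁻¹ * el P x u * el P e x)⁻¹ = (el P x u * el P e x)⁻¹ * el P e u by group] at this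
  set Δ := (el P e u)⁻¹ * el P x u * el P e x with hΔ
  obtain ⟨a, ha⟩ : ∃ a, a = x - e := ⟨_, rfl⟩
  obtain ⟨b, hb⟩ : ∃ b, b = u - x := ⟨_, rfl⟩
  have hcab : u - e = a + b := by rw [ha, hb]; abel
  have haW : a ∈ W := ha ▸ W.sub_mem hx he
  have hbW : b ∈ W := hb ▸ W.sub_mem hu hx
  have hσe : (σ Δ).1 *ᵥ e = e := by
    rw [hΔ, map_mul, map_mul, SympGen.mul_apply, SympGen.mul_apply, el_apply hP hex, el_apply hP hxu, el_inv hc hco hP,
      el_apply hP (show B u e ≠ 0 by rw [B_swap]; exact neg_ne_zero.mpr heu)]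
  have hΔ' : Δ = P (tv (a + b) (-(B e u)⁻¹)) * P (tv b (B x u)⁻¹) * P (tv a (B e x)⁻¹) := by
    rw [hΔ, el, el, el, P_inv hc hco hP (tv_pow_char _ _), tv_inv, hcab, ← hb, ← ha]
  have hra : B e a = B e x := by rw [ha, B_sub_right, B_self, sub_zero]
  by_cases hab : B a b = 0
  · have hs : B e b = B x u := by
      have : B x u = B e b + B a b := by rw [ha, hb]; simp only [B_sub_left, B_sub_right, B_self]; ring
      rw [this, hab, add_zero]
    have hba := B_symm_zero hab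
    have hsum : B e u = B e x + B x u := by
      rw [← hra, ← hs, ← B_add_right, ← hcab, B_sub_right, B_self, sub_zero]
    obtain ⟨r, hr⟩ : ∃ r, r = B e x := ⟨_, rfl⟩
    obtain ⟨s, hs'⟩ : ∃ s, s = B x u := ⟨_, rfl⟩
    have hc1 : Commute (tv (a + b) (-(B e u)⁻¹)) (tv b (B x u)⁻¹) :=
      tv_comm (by rw [B_add_left, hab, B_self, add_zero]) _ _
    have hc2 : Commute (tv (a + b) (-(B e u)⁻¹) * tv b (B x u)⁻¹) (tv a (B e x)⁻¹) :=
      (tv_comm (by rw [B_add_left, hba, B_self, add_zero]) _ _).mul_left (tv_comm hba _ _)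
    have hp2 : (tv (a + b) (-(B e u)⁻¹) * tv b (B x u)⁻¹) ^ p = 1 := by
      rw [hc1.mul_pow, tv_pow_char, tv_pow_char, one_mul]
    have heq : tv (a + b) (-(B e u)⁻¹) * tv b (B x u)⁻¹ * tv a (B e x)⁻¹ =
        tv (s • a - r • b) ((r * s * (r + s))⁻¹) := by
      rw [hsum, ← hr, ← hs']
      have hr0 : r ≠ 0 := hr ▸ hex
      have hs0 : s ≠ 0 := hs' ▸ hxu
      have hrs : r + s ≠ 0 := by rw [hr, hs', ← hsum]; exact heu
      refine ext_apply fun y => ?_
      simp only [SympGen.mul_apply, tv_apply, B_add_left, B_add_right, B_sub_right, B_smul_left, B_smul_right,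
        B_self, hab, hba]
      match_scalars <;> field_simp <;> ring
    rw [hΔ', P_mul hc hco hP (tv_pow_char _ _) (tv_pow_char _ _) hc1, P_mul hc hco hP hp2 (tv_pow_char _ _) hc2, heq]
    refine Subgroup.subset_closure ⟨_, W.sub_mem (W.smul_mem _ haW) (W.smul_mem _ hbW), ?_, _, rfl⟩
    rw [B_sub_left, B_smul_left, B_smul_left, B_swap a e, B_swap b e, hra, hs, ← hr, ← hs']
    ring
  · obtain ⟨b', hb'⟩ : ∃ b', b' = (B a b)⁻¹ • b := ⟨_, rfl⟩
    have h1 : B a b' = 1 := by rw [hb', B_smul_right, inv_mul_cancel₀ hab]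
    have hbb : b = B a b • b' := by rw [hb', smul_smul, mul_inv_cancel₀ hab, one_smul]
    obtain ⟨W₂, hW₂, haW₂, hbW₂', hcut, hle⟩ := exists_span_plane (F := F) h1
    have hbW₂ : b ∈ W₂ := hbb ▸ W₂.smul_mem _ hbW₂'
    have hW₂W : W₂ ≤ W := hle W haW (hb' ▸ W.smul_mem _ hbW)
    have hΔX : Δ ∈ XW P W₂ := by
      rw [hΔ']
      exact mul_mem (mul_mem (Subgroup.subset_closure ⟨_, W₂.add_mem haW₂ hbW₂, _, rfl⟩)
        (Subgroup.subset_closure ⟨_, hbW₂, _, rfl⟩)) (Subgroup.subset_closure ⟨_, haW₂, _, rfl⟩)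
    obtain ⟨w, hw⟩ : ∃ w, w = B e b' • a - B e a • b' := ⟨_, rfl⟩
    have hwW : w ∈ W₂ := hw ▸ W₂.sub_mem (W₂.smul_mem _ haW₂) (W₂.smul_mem _ hbW₂')
    have hperp : ∀ y ∈ W₂, B (e - w) y = 0 := fun y hy => by
      have hb'a : B b' a = -1 := by rw [B_swap, h1]
      conv_lhs => rw [plane_expand haW₂ hbW₂' h1 hcut hy]
      rw [hw]
      simp only [B_sub_left, B_sub_right, B_smul_left, B_smul_right, B_self, h1, hb'a]
      ring
    have hw0 : w ≠ 0 := by
      intro h0
      have := hperp a haW₂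
      rw [h0, sub_zero, hra] at this
      exact hex this
    have hgw := XW_map hP hΔX
    have hfixw : (σ Δ).1 *ᵥ w = w := by
      have h2 := (GW_props hgw).1 _ hperp
      rw [Matrix.mulVec_sub, hσe] at h2
      simpa using h2
    obtain ⟨f, hf, hwf⟩ := exists_partner hW₂ hwW hw0
    obtain ⟨v, hv, d, l, hl, hgl⟩ := stab_decomp hW₂ hwW hf hwf hgw hfixw
    have hcb := cut_bot_of_plane haW₂ hbW₂' h1 hcut hwW hf hwf
    rw [hcb] at hv hl
    have hl1 : l = 1 := by
      refine ext_apply fun y => ?_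
      rw [SympGen.one_apply]
      exact (GW_props hl).1 y fun z hz => by rw [(Submodule.mem_bot F).mp hz, B_zero_right]
    rw [hl1, mul_one, (Submodule.mem_bot F).mp hv, Eh_zero] at hgl
    have hz := plane_trivial hc p hco hW₂ haW₂ hbW₂' h1 hcut
      (S := {x | ∃ u ∈ W₂, ∃ c : F, P (tv u c) = x})
      (by rintro _ ⟨u, _, c, rfl⟩; exact (hP _ (tv_pow_char u c)).2)
      (by rintro _ ⟨u, hu, c, rfl⟩; rw [t_map hP]; exact tv_mem_GW hu c)
      (fun u hu c => ⟨_, ⟨u, hu, c, rfl⟩, t_map hP u c⟩)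
      (Δ * (P (tv w d))⁻¹) (mul_mem hΔX (inv_mem (Subgroup.subset_closure ⟨w, hwW, d, rfl⟩)))
      (by rw [map_mul, map_inv, t_map hP, hgl, mul_inv_cancel])
    rw [mul_inv_eq_one] at hz
    rw [hz]
    refine Subgroup.subset_closure ⟨w, hW₂W hwW, ?_, d, rfl⟩
    have := hperp w hwW
    rw [B_sub_left, B_self, sub_zero] at this
    exact B_symm_zero this

theorem YW_trivial {W : Submodule F Vec} {e f : Vec} (he : e ∈ W) (hf : f ∈ W) (h : B e f = 1)
    (ih : ∀ z ∈ XW P (cut W e f), σ z = 1 → z = 1) : ∀ z ∈ YW P W e, σ z = 1 → z = 1 := by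
  let Hs : Subgroup Sp :=
    { carrier := {g | ∃ v ∈ cut W e f, ∃ a : F, g = Eh e v a}
      one_mem' := ⟨0, (cut W e f).zero_mem, 0, by rw [Eh_zero, tv_zero]⟩
      mul_mem' := by
        rintro _ _ ⟨v, hv, a, rfl⟩ ⟨w, hw, b, rfl⟩
        exact ⟨_, (cut W e f).add_mem hv hw, _, Eh_mul (cut_perp_left hv) (cut_perp_left hw) a b⟩
      inv_mem' := by
        rintro _ ⟨v, hv, a, rfl⟩
        exact ⟨_, (cut W e f).neg_mem hv, _, Eh_inv (cut_perp_left hv) a⟩ }
  have hexp : ∀ g ∈ Hs, g ^ p = 1 := by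
    rintro _ ⟨v, hv, a, rfl⟩
    rw [Eh_pow (cut_perp_left hv), CharP.cast_eq_zero, zero_smul, zero_mul, Eh_zero, tv_zero]
  have hEH : ∀ v ∈ cut W e f, ∀ a : F, Eh e v a ∈ Hs := fun v hv a => ⟨v, hv, a, rfl⟩
  have conj : ∀ x ∈ XW P (cut W e f), ∀ v ∈ cut W e f, ∀ a : F,
      ∃ v' ∈ cut W e f, x * P (Eh e v a) * x⁻¹ = P (Eh e v' a) := by
    intro x hx v hv a
    obtain ⟨g1, g2⟩ := GW_props (XW_map hP hx)
    refine ⟨_, g2 v hv, ?_⟩
    rw [P_conj hc hco hP (hexp _ (hEH v hv a)) x, Eh_conj, g1 e fun w hw => cut_perp_left hw]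
  let M : Subgroup Γ :=
    { carrier := {y | ∃ v ∈ cut W e f, ∃ a : F, ∃ x ∈ XW P (cut W e f), y = P (Eh e v a) * x}
      one_mem' := ⟨0, (cut W e f).zero_mem, 0, 1, one_mem _, by rw [Eh_zero, tv_zero, P_one hc hco hP, one_mul]⟩
      mul_mem' := by
        rintro _ _ ⟨v, hv, a, x, hx, rfl⟩ ⟨w, hw, b, y, hy, rfl⟩
        obtain ⟨w', hw', hcw⟩ := conj x hx w hw b
        refine ⟨_, (cut W e f).add_mem hv hw', a + b + B w' v, x * y, mul_mem hx hy, ?_⟩
        rw [← Eh_mul (cut_perp_left hv) (cut_perp_left hw'), ← P_mul_of_exponent hc hco hP Hs hexp (hEH v hv a)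
          (hEH w' hw' b), ← hcw]
        group
      inv_mem' := by
        rintro _ ⟨v, hv, a, x, hx, rfl⟩
        obtain ⟨v', hv', hcv⟩ := conj x⁻¹ (inv_mem hx) (-v) ((cut W e f).neg_mem hv) (-a)
        refine ⟨v', hv', -a, x⁻¹, inv_mem hx, ?_⟩
        rw [← hcv, _root_.mul_inv_rev, P_inv hc hco hP (hexp _ (hEH v hv a)), Eh_inv (cut_perp_left hv)]
        group }
  have hle : YW P W e ≤ M := by
    rw [YW, Subgroup.closure_le]
    rintro _ ⟨u, hu, hue, c, rfl⟩
    obtain ⟨v, hv⟩ : ∃ v, v = u - B u f • e := ⟨_, rfl⟩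
    have hvc : v ∈ cut W e f := by
      have := proj_mem he hf h hu
      rwa [hue, zero_smul, add_zero, ← hv] at this
    have hu' : u = v + B u f • e := by rw [hv, sub_add_cancel]
    have hv' := (cut W e f).smul_mem (c * B u f) hvc
    refine ⟨_, hv', c * B u f ^ 2, P (tv v c), Subgroup.subset_closure ⟨v, hvc, c, rfl⟩, ?_⟩
    rw [P_mul hc hco hP (hexp _ (hEH _ hv' _)) (tv_pow_char v c)
      (Eh_comm (cut_perp_left hv') hvc.2.1 (by rw [B_smul_right, B_self, mul_zero]) _ _).symm, tv_split hvc, ← hu']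
  intro z hz hσz
  obtain ⟨v, hv, a, x, hx, rfl⟩ := hle hz
  rw [map_mul, (hP _ (hexp _ (hEH v hv a))).1] at hσz
  have hxf : (σ x).1 *ᵥ f = f := (GW_props (XW_map hP hx)).1 f fun w hw => cut_perp_right hw
  obtain ⟨rfl, rfl⟩ := Eh_eq_one_of_fix h hv (by
    conv_lhs => rw [← hxf, ← SympGen.mul_apply, hσz, SympGen.one_apply])
  rw [Eh_zero, tv_zero, one_mul] at hσz
  rw [Eh_zero, tv_zero, P_one hc hco hP, one_mul]
  exact ih x hx hσz

theorem key_coprime {W : Submodule F Vec} (hW : ND W) : ∀ z ∈ XW P W, σ z = 1 → z = 1 := by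
  classical
  refine cut_induction (P := fun W => ∀ z ∈ XW P W, σ z = 1 → z = 1) ?_ ?_ hW
  · intro z hz _
    have : XW P (⊥ : Submodule F Vec) = ⊥ := by
      rw [XW, Subgroup.closure_eq_bot_iff]
      rintro _ ⟨u, hu, c, rfl⟩
      rw [(Submodule.mem_bot F).mp hu, tv_zero_vec, P_one hc hco hP]; rfl
    rwa [this, Subgroup.mem_bot] at hz
  intro W e f hW he hf h ih z hz hσz
  have he0 := ne_zero_left h
  have hY := YW_trivial hc hco hP he hf h ih
  let R : Γ → Γ → Prop := fun a b => a⁻¹ * b ∈ YW P W e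
  have Rtrans : ∀ {a b c : Γ}, R a b → R b c → R a c := fun {a b c} h1 h2 => by
    have := mul_mem h1 h2
    rwa [show a⁻¹ * b * (b⁻¹ * c) = a⁻¹ * c by group] at this
  have Rsymm : ∀ {a b : Γ}, R a b → R b a := fun {a b} h1 => by
    have := inv_mem h1
    rwa [show (a⁻¹ * b)⁻¹ = b⁻¹ * a by group] at this
  have Rleft : ∀ {a b : Γ} (g : Γ), R a b → R (g * a) (g * b) := fun {a b} g h1 => by
    show (g * a)⁻¹ * (g * b) ∈ YW P W e
    rwa [show (g * a)⁻¹ * (g * b) = a⁻¹ * b by group]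
  have tri : ∀ {x u : Vec}, x ∈ W → u ∈ W → B e x ≠ 0 → B x u ≠ 0 → B e u ≠ 0 →
      R (el P x u * el P e x) (el P e u) := fun hx hu h1 h2 h3 => triangle hc hco hP he hx hu h1 h2 h3
  have move : ∀ {x y u : Vec}, x ∈ W → y ∈ W → u ∈ W → B e x ≠ 0 → B x y ≠ 0 → B y u ≠ 0 → B x u ≠ 0 →
      R (el P y u * el P x y * el P e x) (el P x u * el P e x) := fun {x y u} hx hy hu h0 h1 h2 h3 => by
    have := YW_transport hc hco hP (el_mem he hx) (el_apply hP h0) (triangle hc hco hP hx hy hu h1 h2 h3)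
    rwa [show (el P e x)⁻¹ * ((el P y u * el P x y)⁻¹ * el P x u) * el P e x =
      (el P y u * el P x y * el P e x)⁻¹ * (el P x u * el P e x) by group] at this
  have indep : ∀ {x y u : Vec}, x ∈ W → y ∈ W → u ∈ W → B e x ≠ 0 → B x u ≠ 0 → B e y ≠ 0 → B y u ≠ 0 →
      R (el P y u * el P e y) (el P x u * el P e x) := by
    intro x y u hx hy hu h1 h2 h3 h4
    by_cases heu : B e u = 0
    · have one : ∀ {x y : Vec}, x ∈ W → y ∈ W → B e x ≠ 0 → B x u ≠ 0 → B e y ≠ 0 → B y u ≠ 0 → B x y ≠ 0 →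
          R (el P y u * el P e y) (el P x u * el P e x) := by
        intro x y hx hy h1 h2 h3 h4 h5
        have ha : R (el P y u * el P e y) (el P y u * el P x y * el P e x) := by
          rw [mul_assoc]; exact Rleft _ (Rsymm (tri hx hy h1 h5 h3))
        exact Rtrans ha (move hx hy hu h1 h5 h4 h2)
      by_cases hxy : B x y = 0
      · have hy' : e + x ∈ W := W.add_mem he hx
        have a1 : B e (e + x) ≠ 0 := by rw [B_add_right, B_self, zero_add]; exact h1
        have a2 : B (e + x) u ≠ 0 := by rw [B_add_left, heu, zero_add]; exact h2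
        have a3 : B x (e + x) ≠ 0 := by rw [B_add_right, B_self, add_zero, B_swap]; exact neg_ne_zero.mpr h1
        have a4 : B (e + x) y ≠ 0 := by rw [B_add_left, hxy, add_zero]; exact h3
        exact Rtrans (one hy' hy a1 a2 h3 h4 a4) (one hx hy' h1 h2 a1 a2 a3)
      · exact one hx hy h1 h2 h3 h4 hxy
    · exact Rtrans (tri hy hu h3 h4 heu) (Rsymm (tri hx hu h1 h2 heu))
  obtain ⟨S, hS⟩ : ∃ S : Vec → Γ, ∀ u ∈ W, u ≠ 0 →
      ∃ y ∈ W, B e y ≠ 0 ∧ B y u ≠ 0 ∧ S u = el P y u * el P e y := by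
    refine ⟨fun u => if hu : ∃ y ∈ W, B e y ≠ 0 ∧ B y u ≠ 0 then el P hu.choose u * el P e hu.choose else 1,
      fun u hu hu0 => ?_⟩
    have hex := exists_adjacent hW he hu he0 hu0
    simp only [dif_pos hex]
    exact ⟨hex.choose, hex.choose_spec.1, hex.choose_spec.2.1, hex.choose_spec.2.2, rfl⟩
  have S_any : ∀ {u y : Vec}, u ∈ W → u ≠ 0 → y ∈ W → B e y ≠ 0 → B y u ≠ 0 →
      R (S u) (el P y u * el P e y) := fun {u y} hu hu0 hy h1 h2 => by
    obtain ⟨y', hy', h1', h2', hSu⟩ := hS u hu hu0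
    rw [hSu]
    exact indep hy hy' hu h1 h2 h1' h2'
  have S_edge : ∀ {u : Vec}, u ∈ W → B e u ≠ 0 → R (S u) (el P e u) := fun {u} hu heu => by
    have hu0 : u ≠ 0 := fun h0 => heu (by rw [h0, B_zero_right])
    obtain ⟨y', hy', h1', h2', hSu⟩ := hS u hu hu0
    rw [hSu]
    exact tri hy' hu h1' h2' heu
  have S_base : R (S e) 1 := by
    obtain ⟨y', hy', h1', h2', hSe⟩ := hS e he he0
    show (S e)⁻¹ * 1 ∈ YW P W e
    rw [hSe, mul_one, ← el_inv hc hco hP, inv_mul_cancel, inv_one]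
    exact one_mem _
  have step : ∀ {u u' : Vec}, u ∈ W → u' ∈ W → B u u' ≠ 0 → R (el P u u' * S u) (S u') := by
    intro u u' hu hu' huu
    have hu0 : u ≠ 0 := fun h0 => huu (by rw [h0, B_zero_left])
    have hu0' : u' ≠ 0 := fun h0 => huu (by rw [h0, B_zero_right])
    by_cases heu : B e u = 0
    · by_cases heu' : B e u' = 0
      · obtain ⟨y₁, hy₁, hey₁⟩ : ∃ y ∈ W, B e y ≠ 0 := ⟨f, hf, by rw [h]; exact one_ne_zero⟩
        have huu' : B u' u ≠ 0 := by rw [B_swap]; exact neg_ne_zero.mpr huu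
        obtain ⟨cb, hcb⟩ : ∃ c : F, B y₁ u + c * B u' u ≠ 0 := by
          by_cases h0 : B y₁ u = 0
          · exact ⟨1, by rw [h0, zero_add, one_mul]; exact huu'⟩
          · exact ⟨0, by rw [zero_mul, add_zero]; exact h0⟩
        obtain ⟨ca, hca⟩ : ∃ c : F, B y₁ u' + c * B u u' ≠ 0 := by
          by_cases h0 : B y₁ u' = 0
          · exact ⟨1, by rw [h0, zero_add, one_mul]; exact huu⟩
          · exact ⟨0, by rw [zero_mul, add_zero]; exact h0⟩
        have hy : y₁ + ca • u + cb • u' ∈ W := W.add_mem (W.add_mem hy₁ (W.smul_mem _ hu)) (W.smul_mem _ hu')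
        have b1 : B e (y₁ + ca • u + cb • u') ≠ 0 := by
          rw [B_add_right, B_add_right, B_smul_right, B_smul_right, heu, heu', mul_zero, mul_zero, add_zero, add_zero]
          exact hey₁
        have b2 : B (y₁ + ca • u + cb • u') u ≠ 0 := by
          rw [B_add_left, B_add_left, B_smul_left, B_smul_left, B_self, mul_zero, add_zero]; exact hcb
        have b3 : B (y₁ + ca • u + cb • u') u' ≠ 0 := by
          rw [B_add_left, B_add_left, B_smul_left, B_smul_left, B_self, mul_zero, add_zero]; exact hca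
        refine Rtrans (Rleft _ (S_any hu hu0 hy b1 b2)) (Rtrans ?_ (Rsymm (S_any hu' hu0' hy b1 b3)))
        rw [← mul_assoc]
        exact move hy hu hu' b1 b2 huu b3
      · refine Rtrans (Rleft _ (S_any hu hu0 hu' heu' (by rw [B_swap]; exact neg_ne_zero.mpr huu)))
          (Rsymm ?_)
        rw [← mul_assoc, ← el_inv hc hco hP (x := u) (u := u'), mul_inv_cancel, one_mul]
        exact S_edge hu' heu'
    · exact Rtrans (Rleft _ (S_edge hu heu)) (Rsymm (S_any hu' hu0' hu heu huu))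
  have main : ∀ γ ∈ XW P W, (σ γ).1 *ᵥ e ∈ W ∧ R (S ((σ γ).1 *ᵥ e)) γ := by
    have mulgen : ∀ (w : Vec), w ∈ W → ∀ (c : F) (γ : Γ),
        ((σ γ).1 *ᵥ e ∈ W ∧ R (S ((σ γ).1 *ᵥ e)) γ) →
        ((σ (P (tv w c) * γ)).1 *ᵥ e ∈ W ∧ R (S ((σ (P (tv w c) * γ)).1 *ᵥ e)) (P (tv w c) * γ)) := by
      intro w hw c γ ⟨hmem, hR⟩
      rw [map_mul, SympGen.mul_apply, t_map hP, tv_apply]
      set u := (σ γ).1 *ᵥ e with hu
      have hu0 : u ≠ 0 := SympSimple.mulVec_ne_zero _ he0
      refine ⟨W.add_mem hmem (W.smul_mem _ hw), ?_⟩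
      by_cases hk : c * B u w = 0
      · rw [hk, zero_smul, add_zero]
        rcases mul_eq_zero.mp hk with hc0 | hb
        · rw [hc0, tv_zero, P_one hc hco hP, one_mul]; exact hR
        · obtain ⟨y', hy', h1', h2', hSu⟩ := hS u hmem hu0
          have hSe : (σ (S u)).1 *ᵥ e = u := by
            rw [hSu, map_mul, SympGen.mul_apply, el_apply hP h1', el_apply hP h2']
          have hSX : S u ∈ XW P W := hSu ▸ mul_mem (el_mem hy' hmem) (el_mem he hy')
          have hmem' := YW_transport hc hco hP hSX hSe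
            (Subgroup.subset_closure ⟨w, hw, B_symm_zero hb, c, rfl⟩ : P (tv w c) ∈ YW P W u)
          have := mul_mem hmem' hR
          rwa [show (S u)⁻¹ * P (tv w c) * S u * ((S u)⁻¹ * γ) = (S u)⁻¹ * (P (tv w c) * γ) by group] at this
      · have hb : B u w ≠ 0 := fun h0 => hk (by rw [h0, mul_zero])
        have huu : B u (u + (c * B u w) • w) ≠ 0 := by
          rw [B_add_right, B_self, zero_add, B_smul_right]; exact mul_ne_zero hk hb
        have hel : el P u (u + (c * B u w) • w) = P (tv w c) := by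
          rw [el, add_sub_cancel_left, tv_smul, B_add_right, B_self, zero_add, B_smul_right]
          congr 2
          field_simp [mul_ne_zero hk hb, hk, hb]
        have := step hmem (W.add_mem hmem (W.smul_mem _ hw)) huu
        rw [hel] at this
        exact Rtrans (Rsymm this) (Rleft _ hR)
    intro γ hγ
    induction hγ using Subgroup.closure_induction_left with
    | one =>
      rw [map_one, SympGen.one_apply]
      exact ⟨he, S_base⟩
    | mul_left x hx y _ hy =>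
      obtain ⟨w, hw, c, rfl⟩ := hx
      exact mulgen w hw c y hy
    | inv_mul_cancel x hx y _ hy =>
      obtain ⟨w, hw, c, rfl⟩ := hx
      rw [P_inv hc hco hP (tv_pow_char w c), tv_inv]
      exact mulgen w hw (-c) y hy
  obtain ⟨-, hR⟩ := main z hz
  rw [hσz, SympGen.one_apply] at hR
  have hfin := Rtrans (Rsymm S_base) hR
  refine hY z ?_ hσz
  simpa [R] using hfin

end CfsgLib.SpCover
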