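import Cfsg.Agent.Lib.SpCover.PPart
import Cfsg.Agent.Lib.SpCover.Coprime
import Cfsg.Agent.Lib.StSL.Split
import Cfsg.Prelude.Def_KGroupFacts

/-!
Stem extensions of the symplectic groups are trivial, and the multipliers of their central quotients.
-/

set_option autoImplicit false
set_option linter.unusedSectionVars false

namespace CfsgLib.SpCover

open scoped commutatorElement
open CfsgLib.SympTransvection (tv)

universe u v

/-- A surjection with central kernel onto a perfect group without nontrivial stem extensions has a section. -/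
theorem split_of_stem {G : Type u} [Group G] (hperf : commutator G = ⊤)
    (hstem : ∀ (Γ : Type u) [Group Γ] [Finite Γ] (σ : Γ →* G), Cfsg.IsStemExtension σ → σ.ker = ⊥)
    {E : Type u} [Group E] [Finite E] (q : E →* G) (hq : Function.Surjective q) (hqc : q.ker ≤ Subgroup.center E) :
    ∃ s : G →* E, q.comp s = MonoidHom.id G := by
  let r : commutator E →* G := q.comp (commutator E).subtype
  have hr : Function.Surjective r := fun g => by
    have h1 : (commutator E).map q = ⊤ := by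
      rw [commutator_def, Subgroup.map_commutator, Subgroup.map_top_of_surjective q hq, ← commutator_def, hperf]
    obtain ⟨x, hx, rfl⟩ : g ∈ (commutator E).map q := by rw [h1]; trivial
    exact ⟨⟨x, hx⟩, rfl⟩
  have hperf' : commutator E ≤ ⁅commutator E, commutator E⁆ := by
    rw [commutator_def, Subgroup.commutator_le]
    intro a _ b _
    obtain ⟨a', ha⟩ := hr (q a)
    obtain ⟨b', hb⟩ := hr (q b)
    rw [StSL.comm_congr hqc (ha.symm : q a = q a'.1) (hb.symm : q b = q b'.1)]
    exact Subgroup.commutator_mem_commutator a'.2 b'.2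
  have htop : commutator (commutator E) = ⊤ := by
    refine Subgroup.map_injective (commutator E).subtype_injective ?_
    rw [Subgroup.map_subtype_commutator, ← MonoidHom.range_eq_map, Subgroup.range_subtype]
    exact le_antisymm (Subgroup.commutator_le_self _) hperf'
  have hker : r.ker = ⊥ := hstem _ r ⟨hr, fun x hx => Subgroup.mem_center_iff.mpr fun y => Subtype.ext
    (Subgroup.mem_center_iff.mp (hqc (MonoidHom.mem_ker.mpr (MonoidHom.mem_ker.mp hx))) y.1), by rw [htop]; exact le_top⟩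
  let e : commutator E ≃* G := MulEquiv.ofBijective r ⟨(MonoidHom.ker_eq_bot_iff r).mp hker, hr⟩
  exact ⟨(commutator E).subtype.comp e.symm.toMonoidHom, MonoidHom.ext fun g => e.apply_symm_apply g⟩

/-- The multiplier of a central quotient of a finite perfect group without nontrivial stem extensions. -/
theorem multiplier_quotient {G Q : Type u} [Group G] [Finite G] [Group Q] (hperf : commutator G = ⊤)
    (hstem : ∀ (Γ : Type u) [Group Γ] [Finite Γ] (σ : Γ →* G), Cfsg.IsStemExtension σ → σ.ker = ⊥)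
    (θ : G →* Q) (hθ : Function.Surjective θ) (hθc : θ.ker ≤ Subgroup.center G)
    {A : Type v} [CommGroup A] (e : Nonempty (θ.ker ≃* A)) : Cfsg.HasSchurMultiplier Q A := by
  refine ⟨⟨G, inferInstance, inferInstance, θ, ⟨hθ, hθc, by rw [hperf]; exact le_top⟩, e⟩, fun Γ _ _ σ hσ => ?_⟩
  obtain ⟨hs, hc, hcomm⟩ := hσ
  let S : Subgroup (Γ × G) := (σ.comp (MonoidHom.fst _ _)).eqLocus (θ.comp (MonoidHom.snd _ _))
  let q : S →* G := (MonoidHom.snd _ _).comp S.subtype
  have hq : Function.Surjective q := fun d => by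
    obtain ⟨g, hg⟩ := hs (θ d)
    exact ⟨⟨(g, d), hg⟩, rfl⟩
  have hqc : q.ker ≤ Subgroup.center S := by
    rintro ⟨⟨g, d⟩, hm⟩ hk
    have hd : d = 1 := hk
    subst hd
    have hg : g ∈ Subgroup.center Γ := hc ((show σ g = θ 1 from hm).trans (map_one θ))
    rw [Subgroup.mem_center_iff]
    rintro ⟨⟨g', d'⟩, hm'⟩
    exact Subtype.ext (Prod.ext (Subgroup.mem_center_iff.mp hg g') (by simp))
  obtain ⟨s, hs'⟩ := split_of_stem hperf hstem q hq hqc
  let τ : G →* Γ := ((MonoidHom.fst _ _).comp S.subtype).comp s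
  have hτ : ∀ d, σ (τ d) = θ d := fun d => by
    have h1 : σ (s d).1.1 = θ (s d).1.2 := (s d).2
    rwa [show (s d).1.2 = d from DFunLike.congr_fun hs' d] at h1
  have hle : commutator Γ ≤ τ.range := by
    rw [commutator_def, Subgroup.commutator_le]
    intro a _ b _
    obtain ⟨a', ha⟩ := hθ (σ a)
    obtain ⟨b', hb⟩ := hθ (σ b)
    refine ⟨⁅a', b'⁆, ?_⟩
    rw [map_commutatorElement]
    exact StSL.comm_congr hc ((hτ a').trans ha) ((hτ b').trans hb)
  obtain ⟨e⟩ := e
  let f : θ.ker →* σ.ker := (τ.comp θ.ker.subtype).codRestrict _ fun x => by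
    rw [MonoidHom.mem_ker]
    exact (hτ x.1).trans x.2
  refine ⟨f.comp e.symm.toMonoidHom, fun y => ?_⟩
  obtain ⟨x, hx⟩ := hle (hcomm y.2)
  have hxk : θ x = 1 := by rw [← hτ x, hx]; exact y.2
  exact ⟨e ⟨x, hxk⟩, Subtype.ext (by simpa [f] using hx)⟩

variable {F : Type u} [Field F] [Finite F] {m : ℕ}

/-- Stem extensions of `Sp_{2m}(q)` with kernel of characteristic-prime power order are trivial. -/
theorem stem_p (hm : 2 ≤ m) (hm4 : 3 ≤ Nat.card F ∨ 4 ≤ m) (p : ℕ) [CharP F p] [Fact p.Prime] {Γ : Type u}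
    [Group Γ] [Finite Γ] {σ : Γ →* Matrix.symplecticGroup (Fin m) F} (hσ : Cfsg.IsStemExtension σ)
    (hK : IsPGroup p σ.ker) : σ.ker = ⊥ := by
  obtain ⟨hs, hc, hcomm⟩ := hσ
  rw [Subgroup.eq_bot_iff_forall]
  intro z hz
  refine key_p hs hc (orthComm_of hm hm4 hs hc) p hK ND_top z hz ?_
  rw [GW_top, Subgroup.comap_top, ← commutator_def]
  exact hcomm hz

/-- Stem extensions of `Sp_{2m}(q)` with kernel of order prime to the characteristic are trivial. -/
theorem stem_coprime (p : ℕ) [CharP F p] [Fact p.Prime] {Γ : Type u}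
    [Group Γ] [Finite Γ] {σ : Γ →* Matrix.symplecticGroup (Fin m) F} (hσ : Cfsg.IsStemExtension σ)
    (hco : (Nat.card σ.ker).Coprime p) : σ.ker = ⊥ := by
  classical
  obtain ⟨hs, hc, hcomm⟩ := hσ
  obtain ⟨P, hP⟩ : ∃ P : Matrix.symplecticGroup (Fin m) F → Γ, ∀ g, g ^ p = 1 → σ (P g) = g ∧ P g ^ p = 1 :=
    ⟨fun g => if hg : g ^ p = 1 then (lift_exists hc hco hs hg).choose else 1, fun g hg => by
      simp only [dif_pos hg]
      exact (lift_exists hc hco hs hg).choose_spec⟩
  have hle : commutator Γ ≤ XW P ⊤ := by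
    rw [commutator_def, Subgroup.commutator_le]
    intro a _ b _
    obtain ⟨a', ha', haσ⟩ := GW_lift hP (show σ a ∈ GW ⊤ by rw [GW_top]; trivial)
    obtain ⟨b', hb', hbσ⟩ := GW_lift hP (show σ b ∈ GW ⊤ by rw [GW_top]; trivial)
    rw [StSL.comm_congr hc haσ.symm hbσ.symm]
    exact mul_mem (mul_mem (mul_mem ha' hb') (inv_mem ha')) (inv_mem hb')
  rw [Subgroup.eq_bot_iff_forall]
  exact fun z hz => key_coprime hc hco hP ND_top z (hle (hcomm hz)) hz

/-- Stem extensions of `Sp_{2m}(q)` are trivial. -/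
theorem stem_trivial (hm : 2 ≤ m) (hm4 : 3 ≤ Nat.card F ∨ 4 ≤ m) {Γ : Type u} [Group Γ] [Finite Γ]
    (σ : Γ →* Matrix.symplecticGroup (Fin m) F) (hσ : Cfsg.IsStemExtension σ) : σ.ker = ⊥ := by
  obtain ⟨p, hCp⟩ := CharP.exists F
  haveI hp : Fact p.Prime := ⟨CharP.char_prime_of_ne_zero F (CharP.char_ne_zero_of_finite F p)⟩
  set c := ordCompl[p] (Nat.card σ.ker) with hcdef
  have hcp : c.Coprime p := (Nat.coprime_ordCompl hp.out Nat.card_pos.ne').symm
  have hcentre : ∀ z, σ z = 1 → ∀ g, Commute g z := fun z hz g => ker_comm hσ.2.1 hz g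
  let N : Subgroup Γ :=
    { carrier := {z | σ z = 1 ∧ z ^ c = 1}
      one_mem' := ⟨map_one σ, one_pow c⟩
      mul_mem' := fun {a b} ⟨ha, ha'⟩ ⟨hb, hb'⟩ =>
        ⟨by rw [map_mul, ha, hb, one_mul], by rw [(hcentre b hb a).mul_pow, ha', hb', one_mul]⟩
      inv_mem' := fun {a} ⟨ha, ha'⟩ => ⟨by rw [map_inv, ha, inv_one], by rw [inv_pow, ha', inv_one]⟩ }
  haveI : N.Normal := ⟨fun n hn g => by rwa [(hcentre n hn.1 g).eq, mul_inv_cancel_right]⟩
  let σ' : Γ ⧸ N →* Matrix.symplecticGroup (Fin m) F := QuotientGroup.lift N σ fun z hz => hz.1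
  have hσ' : Cfsg.IsStemExtension σ' := by
    refine ⟨fun g => ?_, fun x hx => ?_, fun x hx => ?_⟩
    · obtain ⟨y, rfl⟩ := hσ.1 g
      exact ⟨QuotientGroup.mk y, rfl⟩
    · obtain ⟨y, rfl⟩ := QuotientGroup.mk'_surjective N x
      rw [Subgroup.mem_center_iff]
      intro w
      obtain ⟨v, rfl⟩ := QuotientGroup.mk'_surjective N w
      rw [← map_mul, ← map_mul, (hcentre y hx v).eq]
    · obtain ⟨y, rfl⟩ := QuotientGroup.mk'_surjective N x
      have h1 := Subgroup.mem_map_of_mem (QuotientGroup.mk' N) (hσ.2.2 hx)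
      rw [commutator_def, Subgroup.map_commutator] at h1
      exact Subgroup.commutator_mono le_top le_top h1
  have hK' : IsPGroup p σ'.ker := fun x => by
    obtain ⟨y, hy⟩ := QuotientGroup.mk'_surjective N x.1
    refine ⟨(Nat.card σ.ker).factorization p, Subtype.ext ?_⟩
    have hyk : σ y = 1 := by
      have := MonoidHom.mem_ker.mp x.2
      rwa [← hy] at this
    show x.1 ^ _ = 1
    rw [← hy, ← map_pow]
    refine (QuotientGroup.eq_one_iff _).mpr ⟨by rw [map_pow, hyk, one_pow], ?_⟩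
    rw [← pow_mul, hcdef, Nat.ordProj_mul_ordCompl_eq_self]
    exact congrArg Subtype.val (pow_card_eq_one' (x := (⟨y, hyk⟩ : σ.ker)))
  have h1 := stem_p hm hm4 p hσ' hK'
  have hall : ∀ z, σ z = 1 → z ^ c = 1 := fun z hz => by
    have h2 : (QuotientGroup.mk z : Γ ⧸ N) ∈ σ'.ker := hz
    rw [h1, Subgroup.mem_bot, QuotientGroup.eq_one_iff] at h2
    exact h2.2
  refine stem_coprime p hσ ?_
  rw [Nat.coprime_comm, hp.out.coprime_iff_not_dvd]
  intro hdvd
  obtain ⟨z, hz⟩ := exists_prime_orderOf_dvd_card' p hdvd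
  have : orderOf z ∣ c := orderOf_dvd_of_pow_eq_one (Subtype.ext (hall z.1 z.2))
  rw [hz] at this
  exact hp.out.coprime_iff_not_dvd.mp hcp.symm this

/-- The multiplier of `PSp_{2m}(q)`. -/
theorem multiplier {q : ℕ} [Fintype F] (hF : Fintype.card F = q) (hm : 2 ≤ m) (h2 : m = 2 → 3 ≤ q)
    (hexc : ¬ (m = 3 ∧ q = 2)) : Cfsg.HasCyclicSchurMultiplier (Cfsg.PSp m F) (Nat.gcd 2 (q - 1)) := by
  classical
  have hq : 2 ≤ q := hF ▸ Fintype.one_lt_card
  have hm4 : 3 ≤ Nat.card F ∨ 4 ≤ m := by rw [Nat.card_eq_fintype_card, hF]; omega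
  have hperf : commutator (Matrix.symplecticGroup (Fin m) F) = ⊤ := SympSimple.perfect_fintype (by omega)
  haveI : Finite (Matrix.symplecticGroup (Fin m) F) := Subtype.finite
  refine multiplier_quotient hperf (fun Γ _ _ σ hσ => stem_trivial hm hm4 σ hσ)
    (QuotientGroup.mk' (Subgroup.center (Matrix.symplecticGroup (Fin m) F))) (QuotientGroup.mk'_surjective _)
    (by rw [QuotientGroup.ker_mk']) ?_
  rw [QuotientGroup.ker_mk', ← hF, ← SympTransvection.card_center (F := F) (show 1 ≤ m by omega)]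
  have hcyc : IsCyclic (Subgroup.center (Matrix.symplecticGroup (Fin m) F)) := by
    have hcard := SympTransvection.card_center (F := F) (show 1 ≤ m by omega)
    rcases (Nat.dvd_prime Nat.prime_two).mp (hcard ▸ Nat.gcd_dvd_left 2 _) with h | h
    · haveI := (Nat.card_eq_one_iff_unique.mp h).1
      exact isCyclic_of_subsingleton
    · exact isCyclic_of_prime_card h
  exact ⟨(zmodCyclicMulEquiv hcyc).symm⟩

end CfsgLib.SpCover
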