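import Cfsg.Agent.Lib.SympSimple

/-!
Symplectic geometry inside a nondegenerate subspace: the group generated by the transvections of the
subspace, hyperbolic pairs, and the stabiliser of a vector as a product of its unipotent radical with the
group of the orthogonal complement of a hyperbolic pair.
-/

set_option autoImplicit false
set_option linter.unusedSectionVars false

namespace CfsgLib.SpCover

open Matrix
open CfsgLib.SympGen (B B_self B_swap B_add_left B_add_right B_sub_left B_sub_right B_smul_left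
  B_smul_right B_map tv_apply conj_tv tv_smul tv_add)
open CfsgLib.SympTransvection (tv)
open CfsgLib.SympSimple (ext_apply tv_zero tv_zero_vec tv_inv)

universe u

variable {F : Type u} [Field F] {m : ℕ}

local notation "Vec" => (Fin m ⊕ Fin m → F)
local notation "Sp" => Matrix.symplecticGroup (Fin m) F

theorem B_neg_left (x y : Vec) : B (-x) y = - B x y := by
  rw [← neg_one_smul F x, B_smul_left, neg_one_mul]

theorem B_neg_right (x y : Vec) : B x (-y) = - B x y := by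
  rw [← neg_one_smul F y, B_smul_right, neg_one_mul]

theorem B_zero_left (y : Vec) : B (0 : Vec) y = 0 := by
  rw [← zero_smul F (0 : Vec), B_smul_left, zero_mul]

theorem B_zero_right (y : Vec) : B y (0 : Vec) = 0 := by
  rw [B_swap, B_zero_left, neg_zero]

theorem B_symm_zero {x y : Vec} (h : B x y = 0) : B y x = 0 := by
  rw [B_swap, h, neg_zero]

theorem tv_comm {u w : Vec} (h : B u w = 0) (c d : F) : Commute (tv u c) (tv w d) := by
  have h' := B_symm_zero h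
  refine ext_apply fun x => ?_
  simp only [SympGen.mul_apply, tv_apply, B_add_left, B_smul_left, h, h']
  module

theorem tv_pow (u : Vec) (c : F) (n : ℕ) : tv u c ^ n = tv u ((n : F) * c) := by
  induction n with
  | zero => rw [pow_zero, Nat.cast_zero, zero_mul, tv_zero]
  | succ n ih => rw [pow_succ, ih, tv_add, Nat.cast_succ, add_mul, one_mul]

theorem tv_pow_char {p : ℕ} [CharP F p] (u : Vec) (c : F) : tv u c ^ p = 1 := by
  rw [tv_pow, CharP.cast_eq_zero, zero_mul, tv_zero]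

/-- The group generated by the transvections along vectors of a subspace. -/
def GW (W : Submodule F Vec) : Subgroup Sp :=
  Subgroup.closure {g | ∃ u ∈ W, ∃ c : F, tv u c = g}

theorem tv_mem_GW {W : Submodule F Vec} {u : Vec} (hu : u ∈ W) (c : F) : tv u c ∈ GW W :=
  Subgroup.subset_closure ⟨u, hu, c, rfl⟩

theorem GW_mono {W W' : Submodule F Vec} (h : W ≤ W') : GW W ≤ GW W' :=
  Subgroup.closure_mono fun _ ⟨u, hu, c, hc⟩ => ⟨u, h hu, c, hc⟩

theorem GW_props {W : Submodule F Vec} {g : Sp} (hg : g ∈ GW W) :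
    (∀ x, (∀ w ∈ W, B x w = 0) → g.1 *ᵥ x = x) ∧ ∀ w ∈ W, g.1 *ᵥ w ∈ W := by
  have gen : ∀ u ∈ W, ∀ c : F, (∀ x, (∀ w ∈ W, B x w = 0) → (tv u c).1 *ᵥ x = x) ∧
      ∀ w ∈ W, (tv u c).1 *ᵥ w ∈ W := fun u hu c =>
    ⟨fun x hx => by rw [tv_apply, hx u hu, mul_zero, zero_smul, add_zero],
      fun w hw => by rw [tv_apply]; exact W.add_mem hw (W.smul_mem _ hu)⟩
  refine Subgroup.closure_induction'' (p := fun g _ => (∀ x, (∀ w ∈ W, B x w = 0) → g.1 *ᵥ x = x) ∧
      ∀ w ∈ W, g.1 *ᵥ w ∈ W) ?_ ?_ ?_ ?_ hg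
  · rintro _ ⟨u, hu, c, rfl⟩; exact gen u hu c
  · rintro _ ⟨u, hu, c, rfl⟩; rw [tv_inv]; exact gen u hu (-c)
  · exact ⟨fun x _ => SympGen.one_apply x, fun w hw => by rw [SympGen.one_apply]; exact hw⟩
  · intro a b _ _ ha hb
    exact ⟨fun x hx => by rw [SympGen.mul_apply, hb.1 x hx, ha.1 x hx],
      fun w hw => by rw [SympGen.mul_apply]; exact ha.2 _ (hb.2 w hw)⟩

/-- The subspace is nondegenerate. -/
def ND (W : Submodule F Vec) : Prop := ∀ v ∈ W, (∀ w ∈ W, B v w = 0) → v = 0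

theorem ND_top : ND (⊤ : Submodule F Vec) := by
  intro v _ h
  by_contra hv
  obtain ⟨z, hz⟩ := SympTransvection.exists_dot_ne hv
  exact hz (B_symm_zero (h z trivial))

/-- The orthogonal complement of two vectors inside a subspace. -/
def cut (W : Submodule F Vec) (e f : Vec) : Submodule F Vec where
  carrier := {v | v ∈ W ∧ B v e = 0 ∧ B v f = 0}
  add_mem' := fun ⟨a, b, c⟩ ⟨a', b', c'⟩ =>
    ⟨W.add_mem a a', by rw [B_add_left, b, b', add_zero], by rw [B_add_left, c, c', add_zero]⟩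
  zero_mem' := ⟨W.zero_mem, B_zero_left e, B_zero_left f⟩
  smul_mem' := fun k _ ⟨a, b, c⟩ =>
    ⟨W.smul_mem k a, by rw [B_smul_left, b, mul_zero], by rw [B_smul_left, c, mul_zero]⟩

theorem mem_cut {W : Submodule F Vec} {e f v : Vec} :
    v ∈ cut W e f ↔ v ∈ W ∧ B v e = 0 ∧ B v f = 0 := Iff.rfl

theorem cut_le (W : Submodule F Vec) (e f : Vec) : cut W e f ≤ W := fun _ h => h.1

theorem cut_perp_left {W : Submodule F Vec} {e f v : Vec} (h : v ∈ cut W e f) : B e v = 0 :=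
  B_symm_zero h.2.1

theorem cut_perp_right {W : Submodule F Vec} {e f v : Vec} (h : v ∈ cut W e f) : B f v = 0 :=
  B_symm_zero h.2.2

/-- The projection along a hyperbolic pair. -/
theorem proj_mem {W : Submodule F Vec} {e f : Vec} (he : e ∈ W) (hf : f ∈ W) (h : B e f = 1)
    {x : Vec} (hx : x ∈ W) : x - B x f • e + B x e • f ∈ cut W e f := by
  have h' : B f e = -1 := by rw [B_swap, h]
  refine ⟨W.add_mem (W.sub_mem hx (W.smul_mem _ he)) (W.smul_mem _ hf), ?_, ?_⟩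
  · rw [B_add_left, B_sub_left, B_smul_left, B_smul_left, B_self, h']; ring
  · rw [B_add_left, B_sub_left, B_smul_left, B_smul_left, B_self, h]; ring

theorem cut_ND {W : Submodule F Vec} (hW : ND W) {e f : Vec} (he : e ∈ W) (hf : f ∈ W) (h : B e f = 1) :
    ND (cut W e f) := by
  intro v hv hperp
  refine hW v hv.1 fun w hw => ?_
  have h1 := hperp _ (proj_mem he hf h hw)
  rw [B_add_right, B_sub_right, B_smul_right, B_smul_right, hv.2.1, hv.2.2] at h1
  simpa using h1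

theorem not_mem_cut {W : Submodule F Vec} {e f : Vec} (h : B e f = 1) : e ∉ cut W e f := by
  intro he
  have := he.2.2
  rw [h] at this
  exact one_ne_zero this

theorem ne_zero_left {e f : Vec} (h : B e f = 1) : e ≠ 0 := by
  intro he
  rw [he, B_zero_left] at h
  exact zero_ne_one h

theorem ne_zero_right {e f : Vec} (h : B e f = 1) : f ≠ 0 := by
  intro hf
  rw [hf, B_zero_right] at h
  exact zero_ne_one h

theorem exists_partner {W : Submodule F Vec} (hW : ND W) {v : Vec} (hv : v ∈ W) (hv0 : v ≠ 0) :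
    ∃ f ∈ W, B v f = 1 := by
  by_contra hcon
  push Not at hcon
  refine hv0 (hW v hv fun w hw => ?_)
  by_contra hne
  exact hcon _ (W.smul_mem (B v w)⁻¹ hw) (by rw [B_smul_right, inv_mul_cancel₀ hne])

theorem exists_partner_perp {W : Submodule F Vec} (hW : ND W) {v x : Vec} (hv : v ∈ W) (hx : x ∈ W)
    (hind : ∀ c : F, v ≠ c • x) : ∃ f ∈ W, B v f = 1 ∧ B x f = 0 := by
  have hv0 : v ≠ 0 := fun h => hind 0 (by rw [h, zero_smul])
  by_cases hx0 : x = 0
  · obtain ⟨f, hf, hvf⟩ := exists_partner hW hv hv0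
    exact ⟨f, hf, hvf, by rw [hx0, B_zero_left]⟩
  obtain ⟨y, hy, hxy⟩ := exists_partner hW hx hx0
  by_contra hcon
  push Not at hcon
  refine hind (B v y) (sub_eq_zero.mp (hW _ (W.sub_mem hv (W.smul_mem _ hx)) fun w hw => ?_))
  rw [B_sub_left, B_smul_left]
  by_contra hne
  have hw' : w - B x w • y ∈ W := W.sub_mem hw (W.smul_mem _ hy)
  have h1 : B v (w - B x w • y) ≠ 0 := by
    rw [B_sub_right, B_smul_right, mul_comm (B x w)]; exact hne
  refine hcon _ (W.smul_mem (B v (w - B x w • y))⁻¹ hw') ?_ ?_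
  · rw [B_smul_right, inv_mul_cancel₀ h1]
  · have h2 : B x (w - B x w • y) = 0 := by rw [B_sub_right, B_smul_right, hxy, mul_one, sub_self]
    rw [B_smul_right, h2, mul_zero]

theorem step_in {W : Submodule F Vec} {v w : Vec} (hv : v ∈ W) (hw : w ∈ W) (h : B v w ≠ 0) :
    ∃ g ∈ GW W, g.1 *ᵥ v = w ∧ ∀ x, B x v = B x w → g.1 *ᵥ x = x := by
  refine ⟨tv (w - v) (B v w)⁻¹, tv_mem_GW (W.sub_mem hw hv) _, ?_, fun x hx => ?_⟩
  · rw [tv_apply, B_sub_right, B_self, sub_zero, inv_mul_cancel₀ h, one_smul, add_sub_cancel]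
  · rw [tv_apply, B_sub_right, hx, sub_self, mul_zero, zero_smul, add_zero]

theorem pair_in {W : Submodule F Vec} {e f e' f' : Vec} (he : e ∈ W) (hf : f ∈ W) (he' : e' ∈ W)
    (hf' : f' ∈ W) (h : B e f = 1) (h' : B e' f' = 1) :
    ∃ g ∈ GW W, g.1 *ᵥ e = e' ∧ g.1 *ᵥ f = f' ∧
      ∀ x, B x e = 0 → B x f = 0 → B x e' = 0 → B x f' = 0 → g.1 *ᵥ x = x := by
  have hf'e' : B f' e' = -1 := by rw [B_swap, h']
  obtain ⟨g₁, g₁T, g₁e, g₁fix⟩ : ∃ g ∈ GW W, g.1 *ᵥ e = e' ∧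
      ∀ x, B x e = 0 → B x f = 0 → B x e' = 0 → B x f' = 0 → g.1 *ᵥ x = x := by
    by_cases hee : B e e' = 0
    · obtain ⟨z, hzW, hz1, hz2, hz3⟩ : ∃ z ∈ W, B e z ≠ 0 ∧ B z e' ≠ 0 ∧
          ∀ x, B x f = 0 → B x f' = 0 → B x z = 0 := by
        by_cases h1 : B f e' = 0
        · by_cases h2 : B e f' = 0
          · refine ⟨f + f', W.add_mem hf hf', ?_, ?_, fun x a b => by rw [B_add_right, a, b, add_zero]⟩
            · rw [B_add_right, h, h2, add_zero]; exact one_ne_zero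
            · rw [B_add_left, h1, hf'e', zero_add]; exact neg_ne_zero.mpr one_ne_zero
          · exact ⟨f', hf', h2, by rw [hf'e']; exact neg_ne_zero.mpr one_ne_zero, fun x _ b => b⟩
        · exact ⟨f, hf, by rw [h]; exact one_ne_zero, h1, fun x a _ => a⟩
      obtain ⟨a, aT, ae, afix⟩ := step_in he hzW hz1
      obtain ⟨b, bT, bz, bfix⟩ := step_in hzW he' hz2
      refine ⟨b * a, mul_mem bT aT, by rw [SympGen.mul_apply, ae, bz], fun x p q r s => ?_⟩
      rw [SympGen.mul_apply, afix x (p.trans (hz3 x q s).symm), bfix x ((hz3 x q s).trans r.symm)]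
    · obtain ⟨a, aT, ae, afix⟩ := step_in he he' hee
      exact ⟨a, aT, ae, fun x p _ r _ => afix x (p.trans r.symm)⟩
  have hf₁W : g₁.1 *ᵥ f ∈ W := (GW_props g₁T).2 f hf
  set f₁ := g₁.1 *ᵥ f with hf₁
  have h₁ : B e' f₁ = 1 := by rw [hf₁, ← g₁e, B_map, h]
  obtain ⟨g₂, g₂T, g₂e, g₂f, g₂fix⟩ : ∃ g ∈ GW W, g.1 *ᵥ e' = e' ∧ g.1 *ᵥ f₁ = f' ∧
      ∀ x, B x e' = 0 → B x f₁ = 0 → B x f' = 0 → g.1 *ᵥ x = x := by
    by_cases hd : B f₁ f' = 0
    · obtain ⟨a, aT, af, afix⟩ := step_in (v := f₁) (w := f₁ + e') hf₁W (W.add_mem hf₁W he') (by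
        rw [B_add_right, B_self, zero_add, B_swap, h₁]; exact neg_ne_zero.mpr one_ne_zero)
      obtain ⟨b, bT, bf, bfix⟩ := step_in (v := f₁ + e') (w := f') (W.add_mem hf₁W he') hf' (by
        rw [B_add_left, hd, h', zero_add]; exact one_ne_zero)
      have ha : a.1 *ᵥ e' = e' := afix e' (by rw [B_add_right, B_self, add_zero])
      have hb : b.1 *ᵥ e' = e' := bfix e' (by rw [B_add_right, B_self, add_zero, h₁, h'])
      refine ⟨b * a, mul_mem bT aT, by rw [SympGen.mul_apply, ha, hb], by rw [SympGen.mul_apply, af, bf],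
        fun x p q r => ?_⟩
      rw [SympGen.mul_apply, afix x (by rw [B_add_right, p, q, add_zero]),
        bfix x (by rw [B_add_right, p, q, r, add_zero])]
    · obtain ⟨a, aT, af, afix⟩ := step_in hf₁W hf' hd
      exact ⟨a, aT, afix e' (h₁.trans h'.symm), af, fun x _ q r => afix x (q.trans r.symm)⟩
  refine ⟨g₂ * g₁, mul_mem g₂T g₁T, by rw [SympGen.mul_apply, g₁e, g₂e],
    by rw [SympGen.mul_apply, ← hf₁, g₂f], fun x p q r s => ?_⟩
  have hx : g₁.1 *ᵥ x = x := g₁fix x p q r s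
  rw [SympGen.mul_apply, hx, g₂fix x r (by rw [hf₁, ← hx, B_map, q]) s]

theorem transitive_in {W : Submodule F Vec} (hW : ND W) {v v' : Vec} (hv : v ∈ W) (hv0 : v ≠ 0)
    (hv' : v' ∈ W) (hv0' : v' ≠ 0) : ∃ g ∈ GW W, g.1 *ᵥ v = v' := by
  obtain ⟨f, hf, h⟩ := exists_partner hW hv hv0
  obtain ⟨f', hf', h'⟩ := exists_partner hW hv' hv0'
  obtain ⟨g, hg, hgv, -, -⟩ := pair_in hv hf hv' hf' h h'
  exact ⟨g, hg, hgv⟩

theorem orth_pair_in {W : Submodule F Vec} (hW : ND W) {v x v' x' : Vec} (hv : v ∈ W) (hx : x ∈ W)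
    (hv' : v' ∈ W) (hx' : x' ∈ W) (hv0 : v ≠ 0) (hv0' : v' ≠ 0) (hind : ∀ c : F, x ≠ c • v)
    (hind' : ∀ c : F, x' ≠ c • v') (hvx : B v x = 0) (hvx' : B v' x' = 0) :
    ∃ g ∈ GW W, g.1 *ᵥ v = v' ∧ g.1 *ᵥ x = x' := by
  have flip : ∀ {a b : Vec}, a ≠ 0 → (∀ c : F, b ≠ c • a) → ∀ c : F, a ≠ c • b := by
    intro a b ha hb c hc
    have hc0 : c ≠ 0 := fun h => ha (by rw [hc, h, zero_smul])
    exact hb c⁻¹ (by rw [hc, smul_smul, inv_mul_cancel₀ hc0, one_smul])
  obtain ⟨f, hf, h, hxf⟩ := exists_partner_perp hW hv hx (flip hv0 hind)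
  obtain ⟨f', hf', h', hxf'⟩ := exists_partner_perp hW hv' hx' (flip hv0' hind')
  obtain ⟨g₁, hg₁, hg₁v, hg₁f, -⟩ := pair_in hv hf hv' hf' h h'
  have hx1 : g₁.1 *ᵥ x ∈ cut W v' f' := ⟨(GW_props hg₁).2 x hx,
    by rw [← hg₁v, B_map]; exact B_symm_zero hvx, by rw [← hg₁f, B_map]; exact hxf⟩
  have hx2 : x' ∈ cut W v' f' := ⟨hx', B_symm_zero hvx', hxf'⟩
  have hne : g₁.1 *ᵥ x ≠ 0 := SympSimple.mulVec_ne_zero g₁ fun h0 => hind 0 (by rw [h0, zero_smul])
  have hne' : x' ≠ 0 := fun h0 => hind' 0 (by rw [h0, zero_smul])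
  obtain ⟨g₂, hg₂, hg₂x⟩ := transitive_in (cut_ND hW hv' hf' h') hx1 hne hx2 hne'
  refine ⟨g₂ * g₁, mul_mem (GW_mono (cut_le W v' f') hg₂) hg₁, ?_, ?_⟩
  · rw [SympGen.mul_apply, hg₁v]
    exact (GW_props hg₂).1 v' fun w hw => cut_perp_left hw
  · rw [SympGen.mul_apply, hg₂x]

/-- An element of the unipotent radical of the stabiliser of a vector. -/
def Eh (e v : Vec) (a : F) : Sp := tv (v + e) 1 * tv v (-1) * tv e (a - 1)

theorem Eh_apply {e v : Vec} (h : B e v = 0) (a : F) (x : Vec) :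
    (Eh e v a).1 *ᵥ x = x + B x e • v + (B x v + a * B x e) • e := by
  have h' := B_symm_zero h
  simp only [Eh, SympGen.mul_apply, tv_apply, B_add_left, B_add_right, B_smul_left, B_self, h, h']
  module

theorem Eh_zero (e : Vec) (a : F) : Eh e 0 a = tv e a := by
  rw [Eh, zero_add, tv_zero_vec, mul_one, tv_add]
  congr 1
  ring

theorem Eh_mul {e v w : Vec} (hv : B e v = 0) (hw : B e w = 0) (a b : F) :
    Eh e v a * Eh e w b = Eh e (v + w) (a + b + B w v) := by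
  have hvw : B e (v + w) = 0 := by rw [B_add_right, hv, hw, add_zero]
  refine ext_apply fun x => ?_
  rw [SympGen.mul_apply, Eh_apply hv, Eh_apply hw, Eh_apply hvw]
  simp only [B_add_left, B_add_right, B_smul_left, B_self, hv, B_symm_zero hw]
  module

theorem Eh_inv {e v : Vec} (hv : B e v = 0) (a : F) : (Eh e v a)⁻¹ = Eh e (-v) (-a) := by
  refine inv_eq_of_mul_eq_one_right ?_
  rw [Eh_mul hv (by rw [B_neg_right, hv, neg_zero]), add_neg_cancel, B_neg_left, B_self, neg_zero,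
    add_neg_cancel, add_zero, Eh_zero, tv_zero]

theorem Eh_pow {e v : Vec} (hv : B e v = 0) (a : F) (n : ℕ) :
    Eh e v a ^ n = Eh e ((n : F) • v) ((n : F) * a) := by
  induction n with
  | zero => rw [pow_zero, Nat.cast_zero, zero_smul, zero_mul, Eh_zero, tv_zero]
  | succ n ih =>
    rw [pow_succ, ih, Eh_mul (by rw [B_smul_right, hv, mul_zero]) hv, B_smul_right, B_self, mul_zero,
      add_zero, Nat.cast_succ, add_smul, one_smul, add_mul, one_mul]

theorem Eh_conj (g : Sp) (e v : Vec) (a : F) :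
    g * Eh e v a * g⁻¹ = Eh (g.1 *ᵥ e) (g.1 *ᵥ v) a := by
  simp only [Eh, ← Matrix.mulVec_add, ← conj_tv]
  group

theorem Eh_scale {e v : Vec} (h : B e v = 0) (k a : F) : Eh (k • e) v a = Eh e (k • v) (k ^ 2 * a) := by
  refine ext_apply fun x => ?_
  rw [Eh_apply (by rw [B_smul_left, h, mul_zero]), Eh_apply (by rw [B_smul_right, h, mul_zero])]
  simp only [B_smul_right]
  module

theorem Eh_mem {W : Submodule F Vec} {e v : Vec} (he : e ∈ W) (hv : v ∈ W) (a : F) :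
    Eh e v a ∈ GW W :=
  mul_mem (mul_mem (tv_mem_GW (W.add_mem hv he) _) (tv_mem_GW hv _)) (tv_mem_GW he _)

theorem Eh_apply_right {W : Submodule F Vec} {e f v : Vec} (h : B e f = 1) (hv : v ∈ cut W e f) (a : F) :
    (Eh e v a).1 *ᵥ f = f - v - a • e := by
  rw [Eh_apply (cut_perp_left hv), B_swap f e, h, cut_perp_right hv]
  module

theorem Eh_eq_one_of_fix {W : Submodule F Vec} {e f v : Vec} (h : B e f = 1) (hv : v ∈ cut W e f) {a : F}
    (hfix : (Eh e v a).1 *ᵥ f = f) : v = 0 ∧ a = 0 := by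
  rw [Eh_apply_right h hv] at hfix
  have h1 : v + a • e = 0 := by
    have := sub_eq_zero.mpr hfix.symm
    rw [← this]; abel
  have h2 := congrArg (fun y => B y f) h1
  simp only [B_add_left, B_smul_left, hv.2.2, h, B_zero_left, mul_one, zero_add] at h2
  exact ⟨by simpa [h2] using h1, h2⟩

theorem fix_cut {W : Submodule F Vec} {e f : Vec} (he : e ∈ W) (hf : f ∈ W) (h : B e f = 1) {g : Sp}
    (h1 : ∀ x, (∀ w ∈ W, B x w = 0) → g.1 *ᵥ x = x) (h2 : ∀ w ∈ W, g.1 *ᵥ w ∈ W)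
    (hge : g.1 *ᵥ e = e) (hgf : g.1 *ᵥ f = f) :
    (∀ x, (∀ w ∈ cut W e f, B x w = 0) → g.1 *ᵥ x = x) ∧ ∀ w ∈ cut W e f, g.1 *ᵥ w ∈ cut W e f := by
  constructor
  · intro x hx
    have hy : g.1 *ᵥ (x - B x f • e + B x e • f) = x - B x f • e + B x e • f := by
      refine h1 _ fun w hw => ?_
      have hp := hx _ (proj_mem he hf h hw)
      rw [B_add_right, B_sub_right, B_smul_right, B_smul_right] at hp
      rw [B_add_left, B_sub_left, B_smul_left, B_smul_left, B_swap e w, B_swap f w]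
      linear_combination hp
    rw [Matrix.mulVec_add, Matrix.mulVec_sub, Matrix.mulVec_smul, Matrix.mulVec_smul, hge, hgf] at hy
    simpa using hy
  · exact fun w hw => ⟨h2 w hw.1, by rw [← hge, B_map]; exact hw.2.1, by rw [← hgf, B_map]; exact hw.2.2⟩

section Finite

variable [Finite F]

theorem cut_card_lt {W : Submodule F Vec} {e f : Vec} (he : e ∈ W) (h : B e f = 1) :
    Nat.card (cut W e f) < Nat.card W :=
  Set.ncard_lt_ncard (Set.ssubset_iff_of_subset (cut_le W e f) |>.mpr ⟨e, he, not_mem_cut h⟩)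
    (Set.toFinite _)

/-- Induction on nondegenerate subspaces through hyperbolic pairs. -/
theorem cut_induction {P : Submodule F Vec → Prop} (h0 : P ⊥)
    (hstep : ∀ (W : Submodule F Vec) (e f : Vec), ND W → e ∈ W → f ∈ W → B e f = 1 → P (cut W e f) → P W)
    {W : Submodule F Vec} (hW : ND W) : P W := by
  induction hn : Nat.card W using Nat.strong_induction_on generalizing W with
  | _ n ih =>
    by_cases hb : W = ⊥
    · rw [hb]; exact h0
    obtain ⟨e, he, he0⟩ := W.ne_bot_iff.mp hb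
    obtain ⟨f, hf, h⟩ := exists_partner hW he he0
    exact hstep W e f hW he hf h (ih _ (hn ▸ cut_card_lt he h) (cut_ND hW he hf h) rfl)

theorem mem_GW_of_fix {W : Submodule F Vec} (hW : ND W) :
    ∀ g : Sp, (∀ x, (∀ w ∈ W, B x w = 0) → g.1 *ᵥ x = x) → (∀ w ∈ W, g.1 *ᵥ w ∈ W) → g ∈ GW W := by
  refine cut_induction (P := fun W => ∀ g : Sp, (∀ x, (∀ w ∈ W, B x w = 0) → g.1 *ᵥ x = x) →
    (∀ w ∈ W, g.1 *ᵥ w ∈ W) → g ∈ GW W) ?_ ?_ hW
  · intro g h1 _
    have : g = 1 := ext_apply fun x => by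
      rw [SympGen.one_apply]
      exact h1 x fun w hw => by rw [(Submodule.mem_bot F).mp hw, B_zero_right]
    rw [this]; exact one_mem _
  · intro W e f hW he hf h ih g h1 h2
    obtain ⟨t, ht, hte, htf, -⟩ := pair_in (h2 e he) (h2 f hf) he hf (by rw [B_map, h]) h
    obtain ⟨t1, t2⟩ := GW_props ht
    obtain ⟨c1, c2⟩ := fix_cut he hf h (g := t * g)
      (fun x hx => by rw [SympGen.mul_apply, h1 x hx, t1 x hx])
      (fun w hw => by rw [SympGen.mul_apply]; exact t2 _ (h2 w hw))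
      (by rw [SympGen.mul_apply, hte]) (by rw [SympGen.mul_apply, htf])
    have := mul_mem (inv_mem ht) (GW_mono (cut_le W e f) (ih _ c1 c2))
    rwa [inv_mul_cancel_left] at this

theorem GW_top : GW (⊤ : Submodule F Vec) = ⊤ := by
  rw [eq_top_iff]
  intro g _
  refine mem_GW_of_fix ND_top g (fun x hx => ?_) (fun _ _ => trivial)
  rw [ND_top x trivial hx, Matrix.mulVec_zero]

/-- The stabiliser of a vector. -/
theorem stab_decomp {W : Submodule F Vec} (hW : ND W) {e f : Vec} (he : e ∈ W) (hf : f ∈ W)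
    (h : B e f = 1) {g : Sp} (hg : g ∈ GW W) (hge : g.1 *ᵥ e = e) :
    ∃ v ∈ cut W e f, ∃ a : F, ∃ l ∈ GW (cut W e f), g = Eh e v a * l := by
  obtain ⟨g1, g2⟩ := GW_props hg
  have hegf : B e (g.1 *ᵥ f) = 1 := by
    conv_lhs => rw [← hge]
    rw [B_map, h]
  have hgfe : B (g.1 *ᵥ f) e = -1 := by rw [B_swap, hegf]
  have hfe : B f e = -1 := by rw [B_swap, h]
  obtain ⟨a, ha⟩ : ∃ a, a = B (f - g.1 *ᵥ f) f := ⟨_, rfl⟩
  obtain ⟨v, hv⟩ : ∃ v, v = f - g.1 *ᵥ f - a • e := ⟨_, rfl⟩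
  have hvc : v ∈ cut W e f := by
    rw [hv]
    refine ⟨W.sub_mem (W.sub_mem hf (g2 f hf)) (W.smul_mem _ he), ?_, ?_⟩
    · rw [B_sub_left, B_sub_left, B_smul_left, B_self, hgfe, hfe]; ring
    · rw [B_sub_left, B_smul_left, h, ← ha]; ring
  have hEf : (Eh e v a).1 *ᵥ f = g.1 *ᵥ f := by
    rw [Eh_apply_right h hvc, hv]; abel
  have hEe : (Eh e v a).1 *ᵥ e = e := by
    rw [Eh_apply (cut_perp_left hvc), B_self, cut_perp_left hvc]; simp
  have hle : ((Eh e v a)⁻¹).1 *ᵥ (g.1 *ᵥ e) = e := by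
    calc ((Eh e v a)⁻¹).1 *ᵥ (g.1 *ᵥ e) = ((Eh e v a)⁻¹).1 *ᵥ ((Eh e v a).1 *ᵥ e) := by rw [hge, hEe]
      _ = e := by rw [← SympGen.mul_apply, inv_mul_cancel, SympGen.one_apply]
  have hlf : ((Eh e v a)⁻¹).1 *ᵥ (g.1 *ᵥ f) = f := by
    rw [← hEf, ← SympGen.mul_apply, inv_mul_cancel, SympGen.one_apply]
  obtain ⟨l1, l2⟩ := GW_props (inv_mem (Eh_mem he hvc.1 a) : (Eh e v a)⁻¹ ∈ GW W)
  obtain ⟨c1, c2⟩ := fix_cut he hf h (g := (Eh e v a)⁻¹ * g)
    (fun x hx => by rw [SympGen.mul_apply, g1 x hx, l1 x hx])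
    (fun w hw => by rw [SympGen.mul_apply]; exact l2 _ (g2 w hw))
    (by rw [SympGen.mul_apply, hle]) (by rw [SympGen.mul_apply, hlf])
  exact ⟨v, hvc, a, (Eh e v a)⁻¹ * g, mem_GW_of_fix (cut_ND hW he hf h) _ c1 c2,
    (mul_inv_cancel_left _ _).symm⟩

/-- The stabiliser of a vector is generated by transvections along orthogonal vectors. -/
theorem stab_orth {W : Submodule F Vec} (hW : ND W) {v : Vec} (hv : v ∈ W) (hv0 : v ≠ 0) {g : Sp}
    (hg : g ∈ GW W) (hgv : g.1 *ᵥ v = v) :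
    g ∈ Subgroup.closure {x : Sp | ∃ u ∈ W, ∃ c : F, B u v = 0 ∧ tv u c = x} := by
  obtain ⟨f, hf, h⟩ := exists_partner hW hv hv0
  obtain ⟨w, hw, a, l, hl, rfl⟩ := stab_decomp hW hv hf h hg hgv
  refine mul_mem (mul_mem (mul_mem ?_ ?_) ?_) ?_
  · exact Subgroup.subset_closure ⟨w + v, W.add_mem hw.1 hv, 1, by rw [B_add_left, hw.2.1, B_self, add_zero], rfl⟩
  · exact Subgroup.subset_closure ⟨w, hw.1, -1, hw.2.1, rfl⟩
  · exact Subgroup.subset_closure ⟨v, hv, a - 1, B_self v, rfl⟩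
  · refine Subgroup.closure_mono ?_ hl
    rintro _ ⟨u, hu, c, rfl⟩
    exact ⟨u, hu.1, c, hu.2.1, rfl⟩

theorem card_le {W : Submodule F Vec} {e f : Vec} (he : e ∈ W) (hf : f ∈ W) (h : B e f = 1) :
    Nat.card W ≤ Nat.card F ^ 2 * Nat.card (cut W e f) := by
  let φ : W → (F × F) × cut W e f := fun x => ((B x.1 f, B x.1 e), ⟨_, proj_mem he hf h x.2⟩)
  have hφ : Function.Injective φ := by
    intro x y hxy
    simp only [φ, Prod.mk.injEq, Subtype.mk.injEq] at hxy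
    obtain ⟨⟨h1, h2⟩, h3⟩ := hxy
    rw [h1, h2] at h3
    exact Subtype.ext (by simpa using h3)
  calc Nat.card W ≤ Nat.card ((F × F) × cut W e f) := Nat.card_le_card_of_injective φ hφ
    _ = Nat.card F ^ 2 * Nat.card (cut W e f) := by rw [Nat.card_prod, Nat.card_prod, sq]

end Finite

end CfsgLib.SpCover
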