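import Cfsg.Agent.Lib.SpCover.Orth

/-!
Central extensions of the symplectic group by groups of characteristic-prime power order in which lifts of
orthogonal transvections commute: the kernel meets the derived group trivially.
-/

set_option autoImplicit false
set_option linter.unusedSectionVars false

namespace CfsgLib.SpCover

open Matrix
open scoped commutatorElement
open CfsgLib.SympGen (B B_self B_swap B_add_left B_add_right B_sub_left B_sub_right B_smul_left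
  B_smul_right B_map tv_apply conj_tv tv_smul tv_add)
open CfsgLib.SympTransvection (tv)
open CfsgLib.SympSimple (ext_apply tv_zero tv_zero_vec tv_inv)

universe u v

variable {F : Type u} [Field F] [Finite F] {m : ℕ} {Γ : Type v} [Group Γ] [Finite Γ]

local notation "Vec" => (Fin m ⊕ Fin m → F)
local notation "Sp" => Matrix.symplecticGroup (Fin m) F

/-- The stabiliser of a vector. -/
def stabE (e : Vec) : Subgroup Sp where
  carrier := {g | g.1 *ᵥ e = e}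
  one_mem' := SympGen.one_apply e
  mul_mem' := fun {a b} (ha : a.1 *ᵥ e = e) (hb : b.1 *ᵥ e = e) => by
    show (a * b).1 *ᵥ e = e
    rw [SympGen.mul_apply, hb, ha]
  inv_mem' := fun {a} (ha : a.1 *ᵥ e = e) => by
    show (a⁻¹).1 *ᵥ e = e
    conv_lhs => arg 2; rw [← ha]
    rw [← SympGen.mul_apply, inv_mul_cancel, SympGen.one_apply]

theorem coprime_relIndex (p : ℕ) [CharP F p] [Fact p.Prime] {W : Submodule F Vec} (hW : ND W) {e : Vec}
    (he : e ∈ W) (he0 : e ≠ 0) : ((stabE e).relIndex (GW W)).Coprime p := by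
  letI : MulAction (GW W) Vec :=
    { smul := fun g x => g.1.1 *ᵥ x
      one_smul := fun x => SympGen.one_apply x
      mul_smul := fun g g' x => SympGen.mul_apply g.1 g'.1 x }
  have horb : MulAction.orbit (GW W) e = (W : Set Vec) \ {0} := by
    ext x
    constructor
    · rintro ⟨g, rfl⟩
      exact ⟨(GW_props g.2).2 e he, SympSimple.mulVec_ne_zero g.1 he0⟩
    · rintro ⟨hx, hx0⟩
      obtain ⟨g, hg, hge⟩ := transitive_in hW he he0 hx hx0
      exact ⟨⟨g, hg⟩, hge⟩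
  have hidx : (stabE e).relIndex (GW W) = Nat.card W - 1 := by
    show ((stabE e).subgroupOf (GW W)).index = _
    rw [show (stabE e).subgroupOf (GW W) = MulAction.stabilizer (GW W) e from Subgroup.ext fun g => Iff.rfl,
      MulAction.index_stabilizer, horb,
      Set.ncard_diff (Set.singleton_subset_iff.mpr W.zero_mem) (Set.toFinite _), Set.ncard_singleton]
    rfl
  have hdvd : p ∣ Nat.card W := by
    have : addOrderOf (⟨e, he⟩ : W) = p :=
      addOrderOf_eq_prime (Subtype.ext (by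
        show p • e = 0
        rw [← Nat.cast_smul_eq_nsmul F, CharP.cast_eq_zero, zero_smul]))
        fun h => he0 (congrArg Subtype.val h)
    exact this ▸ addOrderOf_dvd_natCard _
  rw [hidx, Nat.coprime_comm, (Fact.out : p.Prime).coprime_iff_not_dvd]
  intro h
  have h1 := Nat.dvd_sub hdvd h
  rw [Nat.sub_sub_self Nat.card_pos] at h1
  exact (Fact.out : p.Prime).not_dvd_one h1

variable {σ : Γ →* Matrix.symplecticGroup (Fin m) F} (hs : Function.Surjective σ) (hc : σ.ker ≤ Subgroup.center Γ) (horth : OrthComm σ)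

include hc horth

theorem eh_commute {e v w : Vec} (he : B w e = 0) (hv : B w v = 0) (hs : Function.Surjective σ) {a c : F}
    {x y : Γ} (hx : σ x = tv w c) (hy : σ y = Eh e v a) : Commute x y := by
  refine commute_of_mem_Cl hc ?_
  rw [hy]
  have hmem : ∀ (u : Vec) (d : F), B w u = 0 → tv u d ∈ Cl σ x := fun u d hu => by
    obtain ⟨y', hy'⟩ := hs (tv u d)
    rw [← hy']
    exact (mem_Cl_iff hc).mpr (horth w u c d hu x y' hx hy')
  exact mul_mem (mul_mem (hmem _ _ (by rw [B_add_right, hv, he, add_zero])) (hmem _ _ hv)) (hmem _ _ he)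

include hs

theorem gw_commute {U : Submodule F Vec} {w : Vec} (hw : ∀ u ∈ U, B w u = 0) {c : F} {x y : Γ}
    (hx : σ x = tv w c) (hy : σ y ∈ GW U) : Commute x y := by
  refine commute_of_mem_Cl hc (Subgroup.closure_le (Cl σ x) |>.mpr ?_ hy)
  rintro _ ⟨u, hu, d, rfl⟩
  obtain ⟨y', hy'⟩ := hs (tv u d)
  rw [← hy']
  exact (mem_Cl_iff hc).mpr (horth w u c d (hw u hu) x y' hx hy')

theorem eh_eh_commute {e v w : Vec} (hv : B e v = 0) (hw : B e w = 0) (hvw : B v w = 0) {a b : F} {x y : Γ}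
    (hx : σ x = Eh e v a) (hy : σ y = Eh e w b) : Commute x y := by
  refine commute_of_mem_Cl hc ?_
  rw [hy]
  have hmem : ∀ (u : Vec) (d : F), B u e = 0 → B u v = 0 → tv u d ∈ Cl σ x := fun u d h1 h2 => by
    obtain ⟨y', hy'⟩ := hs (tv u d)
    rw [← hy']
    exact (mem_Cl_iff hc).mpr (eh_commute hc horth h1 h2 hs hy' hx).symm
  refine mul_mem (mul_mem (hmem _ _ ?_ ?_) (hmem _ _ (B_symm_zero hw) (B_symm_zero hvw))) (hmem _ _ (B_self e) hv)
  · rw [B_add_left, B_symm_zero hw, B_self, add_zero]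
  · rw [B_add_left, B_symm_zero hvw, hv, add_zero]

/-- Data splitting the unipotent radical of the stabiliser. -/
def HasComplement (σ : Γ →* Sp) (W : Submodule F Vec) (e f : Vec) : Prop :=
  ∃ N : Subgroup Γ, (∀ n ∈ N, σ n = 1 → n = 1) ∧ (∀ n ∈ N, ∃ v ∈ cut W e f, ∃ a : F, σ n = Eh e v a) ∧
    (∀ g : Γ, σ g ∈ GW (cut W e f) → ∀ n ∈ N, g * n * g⁻¹ ∈ N) ∧
    ∀ v ∈ cut W e f, ∀ (a : F) (x : Γ), σ x = Eh e v a → ∃ n ∈ N, ∃ t : F, σ (n⁻¹ * x) = tv e t

theorem step_complement (p : ℕ) [CharP F p] [Fact p.Prime] (hK : IsPGroup p σ.ker) {W : Submodule F Vec}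
    (hW : ND W) {e f : Vec} (he : e ∈ W) (hf : f ∈ W) (h : B e f = 1)
    (ih : ∀ z, σ z = 1 → z ∈ ⁅(GW (cut W e f)).comap σ, (GW (cut W e f)).comap σ⁆ → z = 1)
    (hcompl : HasComplement σ W e f) :
    ∀ z, σ z = 1 → z ∈ ⁅(GW W).comap σ, (GW W).comap σ⁆ → z = 1 := by
  intro z hz hzW
  obtain ⟨N, hN1, hNeh, hNnorm, hcover⟩ := hcompl
  set P : Subgroup Γ := (GW W ⊓ stabE e).comap σ with hP
  set ΓU : Subgroup Γ := (GW (cut W e f)).comap σ with hΓU
  set D : Subgroup Γ := ⁅ΓU, ΓU⁆ with hD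
  have hDU : D ≤ ΓU := Subgroup.commutator_le_self ΓU
  let M : Subgroup Γ :=
    { carrier := {x | ∃ n ∈ N, ∃ l ∈ D, x = n * l}
      one_mem' := ⟨1, one_mem _, 1, one_mem _, (mul_one 1).symm⟩
      mul_mem' := by
        rintro _ _ ⟨n, hn, l, hl, rfl⟩ ⟨n', hn', l', hl', rfl⟩
        exact ⟨n * (l * n' * l⁻¹), mul_mem hn (hNnorm l (hDU hl) n' hn'), l * l', mul_mem hl hl', by group⟩
      inv_mem' := by
        rintro _ ⟨n, hn, l, hl, rfl⟩
        exact ⟨l⁻¹ * n⁻¹ * l⁻¹⁻¹, hNnorm l⁻¹ (hDU (inv_mem hl)) _ (inv_mem hn), l⁻¹, inv_mem hl, by group⟩ }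
  have hzP : z ∈ P := by show σ z ∈ GW W ⊓ stabE e; rw [hz]; exact one_mem _
  have hPW : P ≤ (GW W).comap σ := Subgroup.comap_mono inf_le_left
  have hdec : ∀ y ∈ P, ∃ n ∈ N, ∃ l ∈ ΓU, ∃ c : Γ, (∀ y' ∈ P, Commute c y') ∧ y = n * l * c := by
    intro y hy
    obtain ⟨hyW, hye⟩ : σ y ∈ GW W ∧ σ y ∈ stabE e := hy
    obtain ⟨v, hv, a, l, hl, hyl⟩ := stab_decomp hW he hf h hyW hye
    obtain ⟨l', hl'⟩ := hs l
    obtain ⟨n, hn, t, ht⟩ := hcover v hv a (y * l'⁻¹) (by rw [map_mul, map_inv, hyl, hl', mul_inv_cancel_right])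
    have hcl : Commute (n⁻¹ * (y * l'⁻¹)) l' :=
      gw_commute hs hc horth (fun u hu => cut_perp_left hu) ht (hl'.symm ▸ hl)
    refine ⟨n, hn, l', show σ l' ∈ GW (cut W e f) by rw [hl']; exact hl, n⁻¹ * (y * l'⁻¹), fun y' hy' => ?_, ?_⟩
    · obtain ⟨hy'W, hy'e⟩ : σ y' ∈ GW W ∧ σ y' ∈ stabE e := hy'
      obtain ⟨v', hv', a', l'', hl'', hyl'⟩ := stab_decomp hW he hf h hy'W hy'e
      obtain ⟨x₁, hx₁⟩ := hs (Eh e v' a')
      obtain ⟨x₂, hx₂⟩ := hs l''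
      refine commute_congr hc rfl (show σ (x₁ * x₂) = σ y' by rw [map_mul, hx₁, hx₂, hyl']) ?_
      exact (eh_commute hc horth (B_self e) (cut_perp_left hv') hs ht hx₁).mul_right
        (gw_commute hs hc horth (fun u hu => cut_perp_left hu) ht (hx₂.symm ▸ hl''))
    · rw [mul_assoc n, ← hcl.eq]; group
  have hPM : ⁅P, P⁆ ≤ M := by
    rw [Subgroup.commutator_le]
    intro y hy y' hy'
    obtain ⟨n, hn, l, hl, c, hcc, rfl⟩ := hdec y hy
    obtain ⟨n', hn', l', hl', c', hcc', rfl⟩ := hdec y' hy'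
    have h1 : ⁅n * l * c, n' * l' * c'⁆ = ⁅n * l, n' * l' * c'⁆ := by
      have := (hcc _ hy').eq
      calc ⁅n * l * c, n' * l' * c'⁆
          = n * l * (c * (n' * l' * c')) * c⁻¹ * (n * l)⁻¹ * (n' * l' * c')⁻¹ := by
            simp only [commutatorElement_def]; group
        _ = ⁅n * l, n' * l' * c'⁆ := by rw [this]; simp only [commutatorElement_def]; group
    have h2 : ⁅n * l, n' * l' * c'⁆ = ⁅n * l, n' * l'⁆ := by
      have hnl : n * l ∈ P := by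
        show σ (n * l) ∈ GW W ⊓ stabE e
        obtain ⟨v, hv, a, hσn⟩ := hNeh n hn
        rw [map_mul, hσn]
        refine mul_mem ⟨Eh_mem he hv.1 a, ?_⟩ ⟨GW_mono (cut_le W e f) hl, ?_⟩
        · show (Eh e v a).1 *ᵥ e = e
          rw [Eh_apply (cut_perp_left hv), B_self, cut_perp_left hv]; simp
        · exact (GW_props hl).1 e fun w hw => cut_perp_left hw
      have h3 : c' * (n * l) = n * l * c' := (hcc' _ hnl).eq
      calc ⁅n * l, n' * l' * c'⁆
          = n * l * (n' * l') * (c' * (n * l)⁻¹ * c'⁻¹) * (n' * l')⁻¹ := by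
            simp only [commutatorElement_def]; group
        _ = ⁅n * l, n' * l'⁆ := by
            rw [show c' * (n * l)⁻¹ * c'⁻¹ = (c' * (n * l) * c'⁻¹)⁻¹ by group, h3]
            simp only [commutatorElement_def]; group
    rw [h1, h2]
    have hk : ⁅l, l'⁆ ∈ D := Subgroup.commutator_mem_commutator hl hl'
    have hll : l * l' * l⁻¹ ∈ ΓU := mul_mem (mul_mem hl hl') (inv_mem hl)
    refine ⟨n * (l * n' * l⁻¹) * (l * l' * l⁻¹ * n⁻¹ * (l * l' * l⁻¹)⁻¹) * (⁅l, l'⁆ * n'⁻¹ * ⁅l, l'⁆⁻¹),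
      mul_mem (mul_mem (mul_mem hn (hNnorm l hl n' hn')) (hNnorm _ hll _ (inv_mem hn)))
        (hNnorm _ (hDU hk) _ (inv_mem hn')), ⁅l, l'⁆, hk, ?_⟩
    simp only [commutatorElement_def]; group
  have h1 := pow_relIndex_mem hPW (hc hz) hzP hzW
  obtain ⟨n, hn, l, hl, hnl⟩ := hPM h1
  have hσnl : σ n * σ l = 1 := by rw [← map_mul, ← hnl, map_pow, hz, one_pow]
  obtain ⟨v, hv, a, hσn⟩ := hNeh n hn
  have hfix : (Eh e v a).1 *ᵥ f = f := by
    have hlf : (σ l).1 *ᵥ f = f := (GW_props (hDU hl : σ l ∈ GW (cut W e f))).1 f fun w hw => cut_perp_right hw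
    conv_lhs => rw [← hσn, ← hlf, ← SympGen.mul_apply, hσnl, SympGen.one_apply]
  obtain ⟨rfl, rfl⟩ := Eh_eq_one_of_fix h hv hfix
  rw [Eh_zero, tv_zero] at hσn
  rw [hN1 n hn hσn, one_mul] at hnl
  have hl1 : l = 1 := by
    rw [hσn, one_mul] at hσnl
    exact ih l hσnl hl
  rw [hl1, Subgroup.relIndex_comap, Subgroup.map_comap_eq_self_of_surjective hs,
    Subgroup.inf_relIndex_left] at hnl
  obtain ⟨k, hk⟩ := hK ⟨z, hz⟩
  exact eq_one_of_coprime ((coprime_relIndex p hW he (ne_zero_left h)).pow_right k) hnl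
    (congrArg Subtype.val hk)

theorem complement_of_empty {W : Submodule F Vec} {e f : Vec} (hU : ∀ v ∈ cut W e f, v = 0) :
    HasComplement σ W e f := by
  refine ⟨⊥, fun n hn _ => Subgroup.mem_bot.mp hn, fun n hn => ⟨0, (cut W e f).zero_mem, 0, ?_⟩,
    fun g _ n hn => ?_, fun v hv a x hx => ⟨1, one_mem _, a, ?_⟩⟩
  · rw [Subgroup.mem_bot.mp hn, map_one, Eh_zero, tv_zero]
  · rw [Subgroup.mem_bot.mp hn, mul_one, mul_inv_cancel]; exact one_mem _
  · rw [inv_one, one_mul, hx, hU v hv, Eh_zero]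

section Radical

variable {L : Matrix.symplecticGroup (Fin m) F → Γ} (hL : ∀ g, σ (L g) = g)
  {W : Submodule F (Fin m ⊕ Fin m → F)} {e f : Fin m ⊕ Fin m → F}

/-- The commutator of two lifts of elements of the radical. -/
def be (L : Sp → Γ) (e v w : Vec) : Γ := ⁅L (Eh e v 0), L (Eh e w 0)⁆

include hL

theorem be_congr {v w : Vec} (hv : B e v = 0) (hw : B e w = 0) {a b : F} {x y : Γ} (hx : σ x = Eh e v a)
    (hy : σ y = Eh e w b) : ⁅x, y⁆ = be L e v w := by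
  obtain ⟨z, hz⟩ := hs (tv e a)
  obtain ⟨z', hz'⟩ := hs (tv e b)
  have ev : ∀ {v : Vec}, B e v = 0 → ∀ t : F, Eh e v 0 * tv e t = Eh e v t := fun {v} hv t => by
    rw [← Eh_zero, Eh_mul hv (B_zero_right e), add_zero, zero_add, B_zero_left, add_zero]
  rw [CfsgLib.StSL.comm_congr hc (a' := L (Eh e v 0) * z) (b' := L (Eh e w 0) * z')
    (by rw [map_mul, hL, hz, hx, ev hv]) (by rw [map_mul, hL, hz', hy, ev hw])]
  have c1 := (eh_commute hc horth (B_self e) hw hs hz (hL (Eh e w 0))).eq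
  have c2 := (eh_commute hc horth (B_self e) hv hs hz' (hL (Eh e v 0))).eq
  have c3 : z * z' = z' * z := (horth e e a b (B_self e) z z' hz hz').eq
  rw [be]
  generalize L (Eh e v 0) = A at c2 ⊢
  generalize L (Eh e w 0) = C at c1 ⊢
  calc ⁅A * z, C * z'⁆ = A * (z * C) * z' * z⁻¹ * A⁻¹ * z'⁻¹ * C⁻¹ := by
        simp only [commutatorElement_def]; group
    _ = A * C * (z * z') * z⁻¹ * A⁻¹ * z'⁻¹ * C⁻¹ := by rw [c1]; group
    _ = A * C * (z' * A⁻¹) * z'⁻¹ * C⁻¹ := by rw [c3]; group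
    _ = A * C * (A⁻¹ * (A * z') * A⁻¹) * z'⁻¹ * C⁻¹ := by group
    _ = A * C * (A⁻¹ * (z' * A) * A⁻¹) * z'⁻¹ * C⁻¹ := by rw [c2]
    _ = ⁅A, C⁆ := by simp only [commutatorElement_def]; group

theorem be_map {v w : Vec} (hv : B e v = 0) (hw : B e w = 0) : σ (be L e v w) = tv e (2 * B w v) := by
  rw [be, map_commutatorElement, hL, hL, commutatorElement_def, Eh_inv hv, Eh_inv hw, Eh_mul hv hw,
    Eh_mul (by rw [B_add_right, hv, hw, add_zero]) (by rw [B_neg_right, hv, neg_zero]),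
    add_neg_cancel_comm, Eh_mul hw (by rw [B_neg_right, hw, neg_zero]), add_neg_cancel, Eh_zero]
  congr 1
  rw [B_neg_left, B_neg_left, B_add_right, B_self, B_self, B_swap v w]
  ring

theorem be_left {v v' w : Vec} (hv : B e v = 0) (hv' : B e v' = 0) (hw : B e w = 0) :
    be L e (v + v') w = be L e v' w * be L e v w := by
  rw [← be_congr hs hc horth hL (x := L (Eh e v 0) * L (Eh e v' 0)) (y := L (Eh e w 0))
    (by rw [B_add_right, hv, hv', add_zero]) hw (by rw [map_mul, hL, hL, Eh_mul hv hv']) (hL _)]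
  have c := (eh_commute hc horth (B_self e) hv hs (be_map hs hc horth hL hv' hw) (hL (Eh e v 0))).eq
  simp only [be] at c ⊢
  rw [show ⁅L (Eh e v 0) * L (Eh e v' 0), L (Eh e w 0)⁆ = L (Eh e v 0) * ⁅L (Eh e v' 0), L (Eh e w 0)⁆ *
      (L (Eh e v 0))⁻¹ * ⁅L (Eh e v 0), L (Eh e w 0)⁆ by simp only [commutatorElement_def]; group,
    ← c, mul_inv_cancel_right]

omit hs hc horth hL in
theorem be_swap (v w : Vec) : be L e w v = (be L e v w)⁻¹ := (commutatorElement_inv _ _).symm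

theorem be_right {v w w' : Vec} (hv : B e v = 0) (hw : B e w = 0) (hw' : B e w' = 0) :
    be L e v (w + w') = be L e v w * be L e v w' := by
  rw [be_swap (w + w'), be_left hs hc horth hL hw hw' hv, _root_.mul_inv_rev, ← be_swap, ← be_swap]

theorem be_orth {v w : Vec} (hv : B e v = 0) (hw : B e w = 0) (hvw : B v w = 0) : be L e v w = 1 :=
  commutatorElement_eq_one_iff_commute.mpr (eh_eh_commute hs hc horth hv hw hvw (hL _) (hL _))

theorem be_conj {v w : Vec} (hv : B e v = 0) (hw : B e w = 0) {g : Γ} (hge : (σ g).1 *ᵥ e = e)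
    (hcomm : Commute (be L e v w) g) :
    be L e ((σ g).1 *ᵥ v) ((σ g).1 *ᵥ w) = be L e v w := by
  have hσ : ∀ v, σ (g * L (Eh e v 0) * g⁻¹) = Eh e ((σ g).1 *ᵥ v) 0 := fun v => by
    rw [map_mul, map_mul, map_inv, hL, Eh_conj, hge]
  have hp : ∀ {v : Vec}, B e v = 0 → B e ((σ g).1 *ᵥ v) = 0 := fun {v} hv => by
    conv_lhs => rw [← hge]
    rw [B_map, hv]
  rw [← be_congr hs hc horth hL (hp hv) (hp hw) (hσ v) (hσ w)]
  calc ⁅g * L (Eh e v 0) * g⁻¹, g * L (Eh e w 0) * g⁻¹⁆ = g * be L e v w * g⁻¹ := by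
        simp only [be, commutatorElement_def]; group
    _ = be L e v w := by rw [← hcomm.eq, mul_inv_cancel_right]

variable {e₁ f₁ : Fin m ⊕ Fin m → F}

/-- The commutator pairing as a function of the value of the form. -/
def Phi (L : Sp → Γ) (e e₁ f₁ : Vec) (a : F) : Γ := be L e e₁ (a • f₁)

theorem Phi_map (he₁ : e₁ ∈ cut W e f) (hf₁ : f₁ ∈ cut W e f) (h₁ : B e₁ f₁ = 1) (a : F) :
    σ (Phi L e e₁ f₁ a) = tv e (-2 * a) := by
  rw [Phi, be_map hs hc horth hL (cut_perp_left he₁) (cut_perp_left ((cut W e f).smul_mem a hf₁)),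
    B_smul_left, B_swap f₁ e₁, h₁]
  congr 1
  ring

theorem Phi_zero (he₁ : e₁ ∈ cut W e f) : Phi L e e₁ f₁ 0 = 1 := by
  rw [Phi, zero_smul]
  exact be_orth hs hc horth hL (cut_perp_left he₁) (B_zero_right e) (B_zero_right e₁)

theorem Phi_add (he₁ : e₁ ∈ cut W e f) (hf₁ : f₁ ∈ cut W e f) (a b : F) :
    Phi L e e₁ f₁ (a + b) = Phi L e e₁ f₁ a * Phi L e e₁ f₁ b := by
  rw [Phi, Phi, Phi, add_smul]
  exact be_right hs hc horth hL (cut_perp_left he₁) (cut_perp_left ((cut W e f).smul_mem a hf₁))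
    (cut_perp_left ((cut W e f).smul_mem b hf₁))

theorem Phi_neg (he₁ : e₁ ∈ cut W e f) (hf₁ : f₁ ∈ cut W e f) (a : F) :
    Phi L e e₁ f₁ (-a) = (Phi L e e₁ f₁ a)⁻¹ := by
  refine eq_inv_of_mul_eq_one_left ?_
  rw [← Phi_add hs hc horth hL he₁ hf₁, neg_add_cancel, Phi_zero hs hc horth hL he₁]

theorem be_eq (hW : ND W) (he : e ∈ W) (hf : f ∈ W) (h : B e f = 1) (he₁ : e₁ ∈ cut W e f)
    (hf₁ : f₁ ∈ cut W e f) (h₁ : B e₁ f₁ = 1) {v w : Vec} (hv : v ∈ cut W e f) (hw : w ∈ cut W e f) :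
    be L e v w = Phi L e e₁ f₁ (B v w) := by
  by_cases ha : B v w = 0
  · rw [ha, Phi_zero hs hc horth hL he₁]
    exact be_orth hs hc horth hL (cut_perp_left hv) (cut_perp_left hw) ha
  obtain ⟨g, hg, hge₁, hgf₁, -⟩ := pair_in he₁ hf₁ hv ((cut W e f).smul_mem (B v w)⁻¹ hw) h₁
    (by rw [B_smul_right, inv_mul_cancel₀ ha])
  obtain ⟨g', hg'⟩ := hs g
  have hge : (σ g').1 *ᵥ e = e := by
    rw [hg']; exact (GW_props hg).1 e fun w hw => cut_perp_left hw
  have hgw : (σ g').1 *ᵥ (B v w • f₁) = w := by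
    rw [hg', Matrix.mulVec_smul, hgf₁, smul_smul, mul_inv_cancel₀ ha, one_smul]
  have hcomm : Commute (be L e e₁ (B v w • f₁)) g' :=
    gw_commute hs hc horth (fun u hu => cut_perp_left hu)
      (be_map hs hc horth hL (cut_perp_left he₁) (cut_perp_left ((cut W e f).smul_mem _ hf₁)))
      (hg'.symm ▸ hg)
  have key := be_conj hs hc horth hL (cut_perp_left he₁) (cut_perp_left ((cut W e f).smul_mem (B v w) hf₁))
    hge hcomm
  rw [hgw, show (σ g').1 *ᵥ e₁ = v by rw [hg', hge₁]] at key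
  exact key

/-- A lift of the element scaling a hyperbolic pair. -/
theorem exists_torus (he : e ∈ W) (hf : f ∈ W) (h : B e f = 1) {k : F} (hk : k ≠ 0) :
    ∃ μ : Γ, (∀ v ∈ cut W e f, ∀ (a : F) (x : Γ), σ x = Eh e v a →
        σ (μ * x * μ⁻¹) = Eh e (k • v) (k ^ 2 * a)) ∧
      ∀ g : Γ, σ g ∈ GW (cut W e f) → Commute (σ μ) (σ g) := by
  obtain ⟨g₀, -, hg₀e, -, hg₀fix⟩ := pair_in (W := W) (e' := k • e) (f' := k⁻¹ • f) he hf
    (W.smul_mem _ he) (W.smul_mem _ hf) h (by rw [B_smul_left, B_smul_right, h, mul_one, mul_inv_cancel₀ hk])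
  have hfix : ∀ v ∈ cut W e f, g₀.1 *ᵥ v = v := fun v hv => hg₀fix v hv.2.1 hv.2.2
    (by rw [B_smul_right, hv.2.1, mul_zero]) (by rw [B_smul_right, hv.2.2, mul_zero])
  obtain ⟨μ, hμ⟩ := hs g₀
  refine ⟨μ, fun v hv a x hx => ?_, fun g hg => ?_⟩
  · rw [map_mul, map_mul, map_inv, hμ, hx, Eh_conj, hfix v hv, hg₀e, Eh_scale (cut_perp_left hv)]
  · rw [hμ]
    refine Subgroup.mem_centralizer_singleton_iff.mp (Subgroup.closure_le (Subgroup.centralizer {g₀}) |>.mpr ?_ hg) |>.symm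
    rintro _ ⟨u, hu, c, rfl⟩
    rw [SetLike.mem_coe, Subgroup.mem_centralizer_singleton_iff]
    have h' := conj_tv g₀ u c
    rw [hfix u hu, mul_inv_eq_iff_eq_mul] at h'
    exact h'.symm

theorem complement_odd (p : ℕ) [CharP F p] [Fact p.Prime] (hK : IsPGroup p σ.ker) (hp : p ≠ 2) (hW : ND W)
    (he : e ∈ W) (hf : f ∈ W) (h : B e f = 1) (he₁ : e₁ ∈ cut W e f) (hf₁ : f₁ ∈ cut W e f)
    (h₁ : B e₁ f₁ = 1) : HasComplement σ W e f := by
  have h2 : (2 : F) ≠ 0 := Ring.two_ne_zero (by rwa [ringChar.eq F p])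
  obtain ⟨μ, hμ, hμU⟩ := exists_torus hs hc horth hL he hf h (k := (-1 : F)) (neg_ne_zero.mpr one_ne_zero)
  set Φ : F → Γ := Phi L e e₁ f₁ with hΦ
  have hneg : ∀ {v}, v ∈ cut W e f → -v ∈ cut W e f := fun hv => (cut W e f).neg_mem hv
  have hΦcomm : ∀ (a : F) {v : Vec} {b : F} {x : Γ}, v ∈ cut W e f → σ x = Eh e v b → Commute (Φ a) x :=
    fun a {v b x} hv hx => eh_commute hc horth (B_self e) (cut_perp_left hv) hs
      (Phi_map hs hc horth hL he₁ hf₁ h₁ a) hx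
  -- the canonical lifts
  obtain ⟨hat, hhat⟩ : ∃ hat : Vec → Γ, ∀ v, hat v = ⁅μ, L (Eh e ((-(2 : F)⁻¹) • v) 0)⁆ := ⟨_, fun _ => rfl⟩
  have hsm : ∀ {v}, v ∈ cut W e f → (-(2 : F)⁻¹) • v ∈ cut W e f := fun hv => (cut W e f).smul_mem _ hv
  have hat_map : ∀ v ∈ cut W e f, σ (hat v) = Eh e v 0 := fun v hv => by
    have hy : ∀ r : F, B e (r • ((-(2 : F)⁻¹) • v)) = 0 := fun r => by
      rw [B_smul_right, cut_perp_left (hsm hv), mul_zero]
    rw [hhat, commutatorElement_def, map_mul, hμ _ (hsm hv) 0 _ (hL _), map_inv, hL,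
      Eh_inv (cut_perp_left (hsm hv)), Eh_mul (hy _) (by rw [B_neg_right, cut_perp_left (hsm hv), neg_zero])]
    congr 1
    · rw [neg_one_smul, ← neg_add, ← add_smul, ← neg_smul,
        show -(-(2 : F)⁻¹ + -(2 : F)⁻¹) = 1 by field_simp; ring, one_smul]
    · rw [B_neg_left, B_smul_right, B_self]; ring
  have hat_eq : ∀ v ∈ cut W e f, ∀ x : Γ, σ x = Eh e ((-(2 : F)⁻¹) • v) 0 → ⁅μ, x⁆ = hat v := fun v _ x hx => by
    rw [hhat]
    exact CfsgLib.StSL.comm_congr hc rfl (by rw [hx, hL])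
  have hat_neg : ∀ v ∈ cut W e f, hat (-v) = (hat v)⁻¹ := fun v hv => by
    have hy := hsm hv
    rw [← hat_eq (-v) (hneg hv) (L (Eh e ((-(2 : F)⁻¹) • v) 0))⁻¹
      (by rw [map_inv, hL, Eh_inv (cut_perp_left hy), neg_zero, smul_neg]), hhat]
    have hcx : Commute (⁅μ, L (Eh e ((-(2 : F)⁻¹) • v) 0)⁆) (L (Eh e ((-(2 : F)⁻¹) • v) 0)) :=
      eh_eh_commute hs hc horth (cut_perp_left hv) (cut_perp_left hy) (by rw [B_smul_right, B_self, mul_zero])
        (by rw [← hhat]; exact hat_map v hv) (hL _)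
    generalize L (Eh e ((-(2 : F)⁻¹) • v) 0) = X at hcx ⊢
    calc ⁅μ, X⁻¹⁆ = X⁻¹ * ⁅μ, X⁆⁻¹ * X := by simp only [commutatorElement_def]; group
      _ = ⁅μ, X⁆⁻¹ := by rw [mul_assoc, hcx.inv_left.eq, inv_mul_cancel_left]
  have hat_conj : ∀ v ∈ cut W e f, μ * hat v * μ⁻¹ = hat (-v) := fun v hv => by
    rw [← hat_eq (-v) (hneg hv) (μ * L (Eh e ((-(2 : F)⁻¹) • v) 0) * μ⁻¹)
      (by rw [hμ _ (hsm hv) 0 _ (hL _), neg_one_smul, smul_neg, mul_zero]), hhat]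
    simp only [commutatorElement_def]; group
  have hΦμ : ∀ a : F, μ * Φ a * μ⁻¹ = Φ a := fun a => by
    have hy := (cut W e f).smul_mem a hf₁
    rw [hΦ]
    show μ * be L e e₁ (a • f₁) * μ⁻¹ = be L e e₁ (a • f₁)
    have := be_congr hs hc horth hL (v := (-1 : F) • e₁) (w := (-1 : F) • (a • f₁))
      (by rw [B_smul_right, cut_perp_left he₁, mul_zero]) (by rw [B_smul_right, cut_perp_left hy, mul_zero])
      (hμ e₁ he₁ 0 _ (hL _)) (hμ _ hy 0 _ (hL _))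
    rw [be_eq hs hc horth hL hW he hf h he₁ hf₁ h₁ ((cut W e f).smul_mem _ he₁) ((cut W e f).smul_mem _ hy),
      B_smul_left, B_smul_right, B_smul_right, h₁] at this
    calc μ * be L e e₁ (a • f₁) * μ⁻¹
        = ⁅μ * L (Eh e e₁ 0) * μ⁻¹, μ * L (Eh e (a • f₁) 0) * μ⁻¹⁆ := by
          simp only [be, commutatorElement_def]; group
      _ = _ := by rw [this]; show Phi L e e₁ f₁ _ = Phi L e e₁ f₁ a; congr 1; ring
  -- the product of two canonical lifts
  have hat_mul : ∀ v ∈ cut W e f, ∀ w ∈ cut W e f, hat v * hat w = hat (v + w) * Φ (B v w / 2) := by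
    intro v hv w hw
    have hvw := (cut W e f).add_mem hv hw
    obtain ⟨k, hk⟩ : ∃ k, k = (hat (v + w) * Φ (B v w / 2))⁻¹ * (hat v * hat w) := ⟨_, rfl⟩
    have hkσ : σ k = 1 := by
      rw [hk, map_mul, map_inv, inv_mul_eq_one, map_mul, map_mul, hat_map v hv, hat_map w hw, hat_map _ hvw,
        hΦ, Phi_map hs hc horth hL he₁ hf₁ h₁, Eh_mul (cut_perp_left hv) (cut_perp_left hw), ← Eh_zero,
        Eh_mul (cut_perp_left hvw) (B_zero_right e), add_zero, B_zero_left, B_swap w v]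
      congr 1
      field_simp
      ring
    have e1 : hat v * hat w = hat (v + w) * Φ (B v w / 2) * k := by rw [hk]; group
    have e2 := congrArg (fun y => μ * y * μ⁻¹) e1
    have c3 : ∀ a b : Γ, μ * (a * b) * μ⁻¹ = (μ * a * μ⁻¹) * (μ * b * μ⁻¹) := fun a b => by group
    have hkμ : μ * k * μ⁻¹ = k := by rw [(ker_comm hc hkσ μ).eq, mul_inv_cancel_right]
    simp only [c3, hat_conj v hv, hat_conj w hw, hat_conj _ hvw, hΦμ, hkμ, hat_neg v hv, hat_neg w hw,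
      hat_neg _ hvw] at e2
    have e3 : hat w * hat v = Φ (B w v) * (hat v * hat w) := by
      have := be_congr hs hc horth hL (cut_perp_left hw) (cut_perp_left hv) (hat_map w hw) (hat_map v hv)
      rw [be_eq hs hc horth hL hW he hf h he₁ hf₁ h₁ hw hv] at this
      rw [hΦ, ← this]; simp only [commutatorElement_def]; group
    rw [← _root_.mul_inv_rev, e3, e1] at e2
    have cS : ∀ a : F, Commute (Φ a) (hat (v + w)) := fun a => hΦcomm a hvw (hat_map _ hvw)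
    have ck : ∀ g : Γ, Commute g k := ker_comm hc hkσ
    have e4 : Φ (B w v) * (hat (v + w) * Φ (B v w / 2) * k) = hat (v + w) * Φ (-(B v w / 2)) * k := by
      rw [← mul_assoc, ← mul_assoc, (cS _).eq, mul_assoc (hat (v + w)), hΦ,
        ← Phi_add hs hc horth hL he₁ hf₁, B_swap w v]
      congr 3
      field_simp
      ring
    rw [e4] at e2
    have e5 : k * k = 1 := by
      rw [hΦ, Phi_neg hs hc horth hL he₁ hf₁, ← hΦ] at e2
      have h6 := (cS (B v w / 2)).eq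
      generalize hat (v + w) = S at e2 h6
      generalize Φ (B v w / 2) = T at e2 h6
      have h7 : k⁻¹ * (T * S⁻¹) = S⁻¹ * T * k := by rw [← e2]; group
      have h8 : T * S⁻¹ = S⁻¹ * T := by
        rw [eq_inv_mul_iff_mul_eq, ← mul_assoc, ← h6, mul_inv_cancel_right]
      rw [h8, ((ck (S⁻¹ * T)).inv_right).symm.eq] at h7
      have := mul_left_cancel h7
      rw [inv_eq_iff_mul_eq_one] at this
      exact this
    obtain ⟨j, hj⟩ := hK ⟨k, hkσ⟩
    have hk1 : k = 1 := eq_one_of_coprime (a := 2) (b := p ^ j)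
      (((Nat.coprime_primes Nat.prime_two Fact.out).mpr (Ne.symm hp)).pow_right j) (by rw [sq]; exact e5)
      (congrArg Subtype.val hj)
    rw [e1, hk1, mul_one]
  have hat_zero : hat 0 = 1 := by
    rw [hhat, smul_zero, commutatorElement_eq_one_iff_commute]
    exact ker_comm hc (by rw [hL, Eh_zero, tv_zero]) μ
  refine ⟨{ carrier := {x | ∃ v ∈ cut W e f, ∃ a : F, x = hat v * Φ a}
            one_mem' := ⟨0, (cut W e f).zero_mem, 0, by rw [hat_zero, hΦ, Phi_zero hs hc horth hL he₁, mul_one]⟩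
            mul_mem' := ?_
            inv_mem' := ?_ }, ?_, ?_, ?_, ?_⟩
  · rintro _ _ ⟨v, hv, a, rfl⟩ ⟨w, hw, b, rfl⟩
    refine ⟨v + w, (cut W e f).add_mem hv hw, B v w / 2 + (a + b), ?_⟩
    calc hat v * Φ a * (hat w * Φ b) = hat v * (Φ a * hat w) * Φ b := by group
      _ = hat v * hat w * (Φ a * Φ b) := by rw [(hΦcomm a hw (hat_map w hw)).eq]; group
      _ = _ := by rw [hat_mul v hv w hw, hΦ, Phi_add hs hc horth hL he₁ hf₁,
                    Phi_add hs hc horth hL he₁ hf₁]; group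
  · rintro _ ⟨v, hv, a, rfl⟩
    refine ⟨-v, hneg hv, -a, ?_⟩
    rw [_root_.mul_inv_rev, hat_neg v hv, hΦ, Phi_neg hs hc horth hL he₁ hf₁, ← hΦ,
      ((hΦcomm a hv (hat_map v hv)).inv_left.inv_right).eq]
  · rintro _ ⟨v, hv, a, rfl⟩ hn
    rw [map_mul, hat_map v hv, hΦ, Phi_map hs hc horth hL he₁ hf₁ h₁, ← Eh_zero,
      Eh_mul (cut_perp_left hv) (B_zero_right e), add_zero, B_zero_left, zero_add, add_zero] at hn
    obtain ⟨hv0, ha⟩ := Eh_eq_one_of_fix h hv (by rw [hn, SympGen.one_apply])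
    rw [mul_eq_zero, neg_eq_zero, or_iff_right h2] at ha
    rw [hv0, ha, hat_zero, one_mul, hΦ, Phi_zero hs hc horth hL he₁]
  · rintro _ ⟨v, hv, a, rfl⟩
    exact ⟨v, hv, 0 + -2 * a + 0, by rw [map_mul, hat_map v hv, hΦ, Phi_map hs hc horth hL he₁ hf₁ h₁,
      ← Eh_zero, Eh_mul (cut_perp_left hv) (B_zero_right e), add_zero, B_zero_left]⟩
  · rintro g hg _ ⟨v, hv, a, rfl⟩
    have hgv : (σ g).1 *ᵥ v ∈ cut W e f := (GW_props hg).2 v hv
    refine ⟨(σ g).1 *ᵥ v, hgv, a, ?_⟩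
    have hge : (σ g).1 *ᵥ e = e := (GW_props hg).1 e fun w hw => cut_perp_left hw
    have h1 : g * hat v * g⁻¹ = hat ((σ g).1 *ᵥ v) := by
      rw [hhat v, hhat ((σ g).1 *ᵥ v), show g * ⁅μ, L (Eh e ((-(2 : F)⁻¹) • v) 0)⁆ * g⁻¹ =
        ⁅g * μ * g⁻¹, g * L (Eh e ((-(2 : F)⁻¹) • v) 0) * g⁻¹⁆ by simp only [commutatorElement_def]; group]
      refine CfsgLib.StSL.comm_congr hc ?_ ?_
      · rw [map_mul, map_mul, map_inv, ← (hμU g hg).eq, mul_inv_cancel_right]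
      · rw [map_mul, map_mul, map_inv, hL, hL, Eh_conj, hge, Matrix.mulVec_smul]
    have h2 : Commute (Φ a) g :=
      gw_commute hs hc horth (fun u hu => cut_perp_left hu) (Phi_map hs hc horth hL he₁ hf₁ h₁ a) hg
    rw [← h1, mul_assoc _ g⁻¹, ← h2.inv_right.eq]; group
  · intro v hv a x hx
    refine ⟨hat v, ⟨v, hv, 0, by rw [hΦ, Phi_zero hs hc horth hL he₁, mul_one]⟩, a, ?_⟩
    rw [map_mul, map_inv, hat_map v hv, hx, inv_mul_eq_iff_eq_mul, ← Eh_zero,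
      Eh_mul (cut_perp_left hv) (B_zero_right e), add_zero, B_zero_left, zero_add, add_zero]

theorem complement_even (h2 : (2 : F) = 0) (h4 : 4 ≤ Nat.card F) (hW : ND W) (he : e ∈ W) (hf : f ∈ W)
    (h : B e f = 1) (he₁ : e₁ ∈ cut W e f) (hf₁ : f₁ ∈ cut W e f) (h₁ : B e₁ f₁ = 1) :
    HasComplement σ W e f := by
  classical
  haveI := Fintype.ofFinite F
  obtain ⟨s, hs0, hs2⟩ := SympSimple.field_cond (F := F) (by rwa [← Nat.card_eq_fintype_card])
  have hs1 : s - 1 ≠ 0 := fun h => hs2 (by rw [sub_eq_zero.mp h, one_pow])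
  have hs2' : s ^ 2 - 1 ≠ 0 := sub_ne_zero.mpr hs2
  obtain ⟨μ, hμ, hμU⟩ := exists_torus hs hc horth hL he hf h hs0
  have hker : ∀ v w : Vec, B e v = 0 → B e w = 0 → σ (be L e v w) = 1 := fun v w hv hw => by
    rw [be_map hs hc horth hL hv hw, h2, zero_mul, tv_zero]
  have hscale : ∀ a : F, Phi L e e₁ f₁ (s ^ 2 * a) = Phi L e e₁ f₁ a := fun a => by
    have hy := (cut W e f).smul_mem a hf₁
    have := be_congr hs hc horth hL (v := s • e₁) (w := s • (a • f₁))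
      (by rw [B_smul_right, cut_perp_left he₁, mul_zero]) (by rw [B_smul_right, cut_perp_left hy, mul_zero])
      (hμ e₁ he₁ 0 _ (hL _)) (hμ _ hy 0 _ (hL _))
    rw [be_eq hs hc horth hL hW he hf h he₁ hf₁ h₁ ((cut W e f).smul_mem _ he₁) ((cut W e f).smul_mem _ hy),
      B_smul_left, B_smul_right, B_smul_right, h₁] at this
    rw [show s ^ 2 * a = s * (s * (a * 1)) by ring, ← this,
      comm_invariant hc (d := μ) (x := L (Eh e e₁ 0)) (y := L (Eh e (a • f₁) 0))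
        (commutatorElement_eq_one_iff_commute.mp (by
          rw [← map_commutatorElement]; exact hker _ _ (cut_perp_left he₁) (cut_perp_left hy))) rfl rfl]
    rfl
  have hΦ1 : ∀ a : F, Phi L e e₁ f₁ a = 1 := fun a => by
    have h3 := Phi_add hs hc horth hL he₁ hf₁ ((s ^ 2 - 1) * (a / (s ^ 2 - 1))) (a / (s ^ 2 - 1))
    rw [show (s ^ 2 - 1) * (a / (s ^ 2 - 1)) + a / (s ^ 2 - 1) = s ^ 2 * (a / (s ^ 2 - 1)) by ring, hscale,
      mul_div_cancel₀ _ hs2'] at h3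
    exact right_eq_mul.mp h3
  have habel : ∀ {v w : Vec}, v ∈ cut W e f → w ∈ cut W e f → ∀ {a b : F} {x y : Γ}, σ x = Eh e v a →
      σ y = Eh e w b → Commute x y := fun {v w} hv hw {a b x y} hx hy => by
    rw [← commutatorElement_eq_one_iff_commute, be_congr hs hc horth hL (cut_perp_left hv) (cut_perp_left hw) hx hy,
      be_eq hs hc horth hL hW he hf h he₁ hf₁ h₁ hv hw, hΦ1]
  have hδ : ∀ {v : Vec}, v ∈ cut W e f → ∀ {a : F} {x : Γ}, σ x = Eh e v a →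
      σ ⁅μ, x⁆ = Eh e ((s - 1) • v) ((s ^ 2 - 1) * a) := fun {v} hv {a x} hx => by
    rw [commutatorElement_def, map_mul, hμ v hv a x hx, map_inv, hx, Eh_inv (cut_perp_left hv),
      Eh_mul (by rw [B_smul_right, cut_perp_left hv, mul_zero]) (by rw [B_neg_right, cut_perp_left hv, neg_zero])]
    congr 1
    · rw [sub_smul, one_smul, sub_eq_add_neg]
    · rw [B_neg_left, B_smul_right, B_self]; ring
  refine ⟨{ carrier := {n | ∃ v ∈ cut W e f, ∃ (a : F) (x : Γ), σ x = Eh e v a ∧ n = ⁅μ, x⁆}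
            one_mem' := ⟨0, (cut W e f).zero_mem, 0, 1, by rw [map_one, Eh_zero, tv_zero],
              (commutatorElement_one_right μ).symm⟩
            mul_mem' := ?_
            inv_mem' := ?_ }, ?_, ?_, ?_, ?_⟩
  · rintro _ _ ⟨v, hv, a, x, hx, rfl⟩ ⟨w, hw, b, y, hy, rfl⟩
    refine ⟨v + w, (cut W e f).add_mem hv hw, a + b + B w v, x * y,
      by rw [map_mul, hx, hy, Eh_mul (cut_perp_left hv) (cut_perp_left hw)], ?_⟩
    have c := (habel hv ((cut W e f).smul_mem _ hw) hx (hδ hw hy)).eq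
    rw [show ⁅μ, x * y⁆ = ⁅μ, x⁆ * (x * ⁅μ, y⁆ * x⁻¹) by simp only [commutatorElement_def]; group, c,
      mul_inv_cancel_right]
  · rintro _ ⟨v, hv, a, x, hx, rfl⟩
    refine ⟨-v, (cut W e f).neg_mem hv, -a, x⁻¹, by rw [map_inv, hx, Eh_inv (cut_perp_left hv)], ?_⟩
    have c := habel ((cut W e f).smul_mem _ hv) hv (hδ hv hx) hx
    rw [show ⁅μ, x⁻¹⁆ = x⁻¹ * ⁅μ, x⁆⁻¹ * x by simp only [commutatorElement_def]; group, mul_assoc,
      c.inv_left.eq, inv_mul_cancel_left]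
  · rintro _ ⟨v, hv, a, x, hx, rfl⟩ hn
    rw [hδ hv hx] at hn
    obtain ⟨hv0, ha⟩ := Eh_eq_one_of_fix h ((cut W e f).smul_mem _ hv) (by rw [hn, SympGen.one_apply])
    rw [smul_eq_zero, or_iff_right hs1] at hv0
    rw [mul_eq_zero, or_iff_right hs2'] at ha
    rw [hv0, ha, Eh_zero, tv_zero] at hx
    exact commutatorElement_eq_one_iff_commute.mpr (ker_comm hc hx μ)
  · rintro _ ⟨v, hv, a, x, hx, rfl⟩
    exact ⟨_, (cut W e f).smul_mem _ hv, _, hδ hv hx⟩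
  · rintro g hg _ ⟨v, hv, a, x, hx, rfl⟩
    have hge : (σ g).1 *ᵥ e = e := (GW_props hg).1 e fun w hw => cut_perp_left hw
    refine ⟨(σ g).1 *ᵥ v, (GW_props hg).2 v hv, a, g * x * g⁻¹,
      by rw [map_mul, map_mul, map_inv, hx, Eh_conj, hge], ?_⟩
    rw [show g * ⁅μ, x⁆ * g⁻¹ = ⁅g * μ * g⁻¹, g * x * g⁻¹⁆ by simp only [commutatorElement_def]; group]
    exact CfsgLib.StSL.comm_congr hc
      (by rw [map_mul, map_mul, map_inv, ← (hμU g hg).eq, mul_inv_cancel_right]) rfl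
  · intro v hv a x hx
    refine ⟨⁅μ, L (Eh e ((s - 1)⁻¹ • v) ((s ^ 2 - 1)⁻¹ * a))⁆,
      ⟨_, (cut W e f).smul_mem _ hv, _, _, hL _, rfl⟩, 0, ?_⟩
    rw [map_mul, map_inv, hδ ((cut W e f).smul_mem _ hv) (hL _), hx, smul_smul, mul_inv_cancel₀ hs1, one_smul,
      ← mul_assoc, mul_inv_cancel₀ hs2', one_mul, inv_mul_cancel, tv_zero]

theorem complement_two (h01 : ∀ x : F, x = 0 ∨ x = 1) (hW : ND W) (he : e ∈ W) (hf : f ∈ W)
    (h : B e f = 1) (he₁ : e₁ ∈ cut W e f) (hf₁ : f₁ ∈ cut W e f) (h₁ : B e₁ f₁ = 1) :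
    HasComplement σ W e f := by
  classical
  have hU : ND (cut W e f) := cut_ND hW he hf h
  have h2 : (1 : F) + 1 = 0 := (h01 (1 + 1)).resolve_right fun h => one_ne_zero (add_eq_left.mp h)
  have hm1 : (-1 : F) = 1 := neg_eq_of_add_eq_zero_left h2
  have hneg : ∀ v : Vec, -v = v := fun v => by rw [← neg_one_smul F v, hm1, one_smul]
  have hvv : ∀ v : Vec, v + v = 0 := fun v => by rw [← two_smul F, ← one_add_one_eq_two, h2, zero_smul]
  have hsw : ∀ v w : Vec, B v w = B w v := fun v w => by rw [B_swap v w, ← neg_one_mul, hm1, one_mul]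
  have he₁0 : e₁ ≠ 0 := ne_zero_left h₁
  obtain ⟨x₀, hx₀⟩ := hs (Eh e e₁ 1)
  have hwd : ∀ g g' : Γ, σ g ∈ GW (cut W e f) → σ g' ∈ GW (cut W e f) →
      (σ g).1 *ᵥ e₁ = (σ g').1 *ᵥ e₁ → g * x₀ * g⁻¹ = g' * x₀ * g'⁻¹ := by
    intro g g' hg hg' hgg
    have hst : σ (g'⁻¹ * g) ∈ GW (cut W e f) := by rw [map_mul, map_inv]; exact mul_mem (inv_mem hg') hg
    have hfix : (σ (g'⁻¹ * g)).1 *ᵥ e₁ = e₁ := by
      rw [map_mul, map_inv, SympGen.mul_apply, hgg, ← SympGen.mul_apply, inv_mul_cancel, SympGen.one_apply]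
    have := Subgroup.closure_le (Cl σ x₀) |>.mpr (by
      rintro _ ⟨u, hu, c, hue, rfl⟩
      obtain ⟨y, hy⟩ := hs (tv u c)
      rw [← hy]
      exact (mem_Cl_iff hc).mpr (eh_commute hc horth hu.2.1 hue hs hy hx₀).symm)
      (stab_orth hU he₁ he₁0 hst hfix)
    have hcomm := (commute_of_mem_Cl hc this).eq
    calc g * x₀ * g⁻¹ = g' * (g'⁻¹ * g * x₀) * g⁻¹ := by group
      _ = g' * x₀ * g'⁻¹ := by rw [← hcomm]; group
  obtain ⟨G, hG⟩ : ∃ G : Vec → Γ, ∀ v ∈ cut W e f, v ≠ 0 → σ (G v) ∈ GW (cut W e f) ∧ (σ (G v)).1 *ᵥ e₁ = v := by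
    refine ⟨fun v => if hv : ∃ g : Γ, σ g ∈ GW (cut W e f) ∧ (σ g).1 *ᵥ e₁ = v then hv.choose else 1, fun v hv hv0 => ?_⟩
    have hex : ∃ g : Γ, σ g ∈ GW (cut W e f) ∧ (σ g).1 *ᵥ e₁ = v := by
      obtain ⟨g, hg, hgv⟩ := transitive_in hU he₁ he₁0 hv hv0
      obtain ⟨g', rfl⟩ := hs g
      exact ⟨g', hg, hgv⟩
    simp only [dif_pos hex]
    exact hex.choose_spec
  obtain ⟨E₀, hE₀⟩ : ∃ E₀ : Vec → Γ, ∀ v, E₀ v = G v * x₀ * (G v)⁻¹ := ⟨_, fun _ => rfl⟩
  have hfe : ∀ {g : Γ}, σ g ∈ GW (cut W e f) → (σ g).1 *ᵥ e = e :=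
    fun hg => (GW_props hg).1 e fun w hw => cut_perp_left hw
  have hne : ∀ {g : Γ} {v : Vec}, v ≠ 0 → (σ g).1 *ᵥ v ≠ 0 := fun hv => SympSimple.mulVec_ne_zero _ hv
  have E₀_map : ∀ v ∈ cut W e f, v ≠ 0 → σ (E₀ v) = Eh e v 1 := fun v hv hv0 => by
    rw [hE₀, map_mul, map_mul, map_inv, hx₀, Eh_conj, (hG v hv hv0).2, hfe (hG v hv hv0).1]
  have E₀_conj : ∀ g : Γ, σ g ∈ GW (cut W e f) → ∀ v ∈ cut W e f, v ≠ 0 →
      g * E₀ v * g⁻¹ = E₀ ((σ g).1 *ᵥ v) := fun g hg v hv hv0 => by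
    obtain ⟨g1, g2⟩ := hG v hv hv0
    have hgv : (σ g).1 *ᵥ v ∈ cut W e f := (GW_props hg).2 v hv
    rw [hE₀, hE₀, show g * (G v * x₀ * (G v)⁻¹) * g⁻¹ = (g * G v) * x₀ * (g * G v)⁻¹ by group]
    exact hwd _ _ (by rw [map_mul]; exact mul_mem hg g1) (hG _ hgv (hne hv0)).1
      (by rw [map_mul, SympGen.mul_apply, g2, (hG _ hgv (hne hv0)).2])
  have hsum : ∀ {v w : Vec}, B v w = 1 → v + w ≠ 0 := fun {v w} hb h0 => by
    have := congrArg (fun y => B y w) h0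
    simp only [B_add_left, hb, B_self, add_zero, B_zero_left] at this
    exact one_ne_zero this
  have hef₁ : e₁ + f₁ ∈ cut W e f := (cut W e f).add_mem he₁ hf₁
  obtain ⟨k₁, hk₁⟩ : ∃ k₁, k₁ = (E₀ (e₁ + f₁))⁻¹ * (E₀ e₁ * E₀ f₁) := ⟨_, rfl⟩
  have hk₁σ : σ k₁ = 1 := by
    rw [hk₁, map_mul, map_inv, inv_mul_eq_one, map_mul, E₀_map _ hef₁ (hsum h₁), E₀_map _ he₁ he₁0,
      E₀_map _ hf₁ (ne_zero_right h₁), Eh_mul (cut_perp_left he₁) (cut_perp_left hf₁), hsw, h₁]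
    congr 1
    rw [h2, zero_add]
  obtain ⟨E', hE'⟩ : ∃ E' : Vec → Γ, ∀ v, E' v = E₀ v * k₁⁻¹ := ⟨_, fun _ => rfl⟩
  have E'_map : ∀ v ∈ cut W e f, v ≠ 0 → σ (E' v) = Eh e v 1 := fun v hv hv0 => by
    rw [hE', map_mul, map_inv, hk₁σ, inv_one, mul_one, E₀_map v hv hv0]
  have E'_conj : ∀ g : Γ, σ g ∈ GW (cut W e f) → ∀ v ∈ cut W e f, v ≠ 0 →
      g * E' v * g⁻¹ = E' ((σ g).1 *ᵥ v) := fun g hg v hv hv0 => by
    rw [hE', hE', ← E₀_conj g hg v hv hv0, mul_assoc g, mul_assoc (E₀ v)]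
    rw [show k₁⁻¹ * g⁻¹ = g⁻¹ * k₁⁻¹ from ((ker_comm hc hk₁σ g⁻¹).inv_right.eq).symm]
    group
  have hprod : ∀ v ∈ cut W e f, ∀ w ∈ cut W e f, B v w = 1 → E' v * E' w = E' (v + w) := by
    intro v hv w hw hb
    obtain ⟨g, hg, hge, hgf, -⟩ := pair_in he₁ hf₁ hv hw h₁ hb
    obtain ⟨g', rfl⟩ := hs g
    have hbase : E' e₁ * E' f₁ = E' (e₁ + f₁) := by
      rw [hE', hE', hE', show E₀ e₁ * k₁⁻¹ * (E₀ f₁ * k₁⁻¹) = E₀ e₁ * (k₁⁻¹ * E₀ f₁) * k₁⁻¹ by group,
        ← ((ker_comm hc hk₁σ (E₀ f₁)).inv_right).eq, hk₁]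
      group
    have := congrArg (fun y => g' * y * g'⁻¹) hbase
    rw [E'_conj g' hg _ hef₁ (hsum h₁), Matrix.mulVec_add, hge, hgf] at this
    rw [← this, ← hge, ← hgf, ← E'_conj g' hg _ he₁ he₁0, ← E'_conj g' hg _ hf₁ (ne_zero_right h₁)]
    group
  have hcomm : ∀ v ∈ cut W e f, v ≠ 0 → ∀ w ∈ cut W e f, w ≠ 0 → Commute (E' v) (E' w) := by
    intro v hv hv0 w hw hw0
    rcases h01 (B v w) with hb | hb
    · exact eh_eh_commute hs hc horth (cut_perp_left hv) (cut_perp_left hw) hb (E'_map v hv hv0) (E'_map w hw hw0)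
    · show E' v * E' w = E' w * E' v
      rw [hprod v hv w hw hb, hprod w hw v hv (by rw [hsw, hb]), add_comm]
  have hsq : ∀ w ∈ cut W e f, w ≠ 0 → E' w * E' w = 1 := by
    intro w hw hw0
    obtain ⟨v, hv, hb⟩ := exists_partner hU hw hw0
    have hv0 : v ≠ 0 := ne_zero_right hb
    have h1 := hprod w hw (v + w) ((cut W e f).add_mem hv hw) (by rw [B_add_right, hb, B_self, add_zero])
    rw [show w + (v + w) = v + (w + w) by abel, hvv, add_zero, ← hprod v hv w hw (by rw [hsw, hb]),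
      (hcomm v hv hv0 w hw hw0).eq, ← mul_assoc] at h1
    exact mul_eq_right.mp h1
  -- the element for orthogonal pairs
  obtain ⟨T, hT1, hT2, hT⟩ : ∃ T : Γ, (σ T = tv e 1 ∨ T = 1) ∧
      ((∃ v ∈ cut W e f, ∃ x ∈ cut W e f, v ≠ 0 ∧ x ≠ 0 ∧ v ≠ x ∧ B v x = 0) ∨ T = 1) ∧
      ∀ v ∈ cut W e f, v ≠ 0 → ∀ x ∈ cut W e f, x ≠ 0 → v ≠ x → B v x = 0 → E' v * E' x * E' (v + x) = T := by
    have hne2 : ∀ {v x : Vec}, v ≠ 0 → x ≠ 0 → v ≠ x → ∀ c : F, x ≠ c • v := fun {v x} _ hx hvx c hc => by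
      rcases h01 c with rfl | rfl
      · exact hx (by rw [hc, zero_smul])
      · exact hvx (by rw [hc, one_smul])
    have hsum' : ∀ {v x : Vec}, v ≠ x → v + x ≠ 0 := fun {v x} hvx h0 =>
      hvx (by rw [eq_neg_of_add_eq_zero_left h0, hneg])
    by_cases hex : ∃ v ∈ cut W e f, ∃ x ∈ cut W e f, v ≠ 0 ∧ x ≠ 0 ∧ v ≠ x ∧ B v x = 0
    · obtain ⟨v₁, hv₁, x₁, hx₁, hv₁0, hx₁0, hne₁, hb₁⟩ := hex
      have hs1 := (cut W e f).add_mem hv₁ hx₁
      have hσT : σ (E' v₁ * E' x₁ * E' (v₁ + x₁)) = tv e 1 := by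
        rw [map_mul, map_mul, E'_map _ hv₁ hv₁0, E'_map _ hx₁ hx₁0, E'_map _ hs1 (hsum' hne₁),
          Eh_mul (cut_perp_left hv₁) (cut_perp_left hx₁), Eh_mul (cut_perp_left hs1) (cut_perp_left hs1), hvv,
          Eh_zero, B_self, hsw x₁ v₁, hb₁]
        simp only [h2, add_zero, zero_add]
      refine ⟨_, Or.inl hσT, Or.inl ⟨v₁, hv₁, x₁, hx₁, hv₁0, hx₁0, hne₁, hb₁⟩, fun v hv hv0 x hx hx0 hvx hb => ?_⟩
      obtain ⟨g, hg, hgv, hgx⟩ := orth_pair_in hU hv₁ hx₁ hv hx hv₁0 hv0 (hne2 hv₁0 hx₁0 hne₁)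
        (hne2 hv0 hx0 hvx) hb₁ hb
      obtain ⟨g', rfl⟩ := hs g
      have := (gw_commute hs hc horth (U := cut W e f) (fun u hu => cut_perp_left hu) hσT hg).symm.eq
      rw [← hgv, ← hgx, ← Matrix.mulVec_add, ← E'_conj g' hg _ hv₁ hv₁0, ← E'_conj g' hg _ hx₁ hx₁0,
        ← E'_conj g' hg _ hs1 (hsum' hne₁)]
      calc g' * E' v₁ * g'⁻¹ * (g' * E' x₁ * g'⁻¹) * (g' * E' (v₁ + x₁) * g'⁻¹)
          = g' * (E' v₁ * E' x₁ * E' (v₁ + x₁)) * g'⁻¹ := by group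
        _ = _ := by rw [this, mul_inv_cancel_right]
    · refine ⟨1, Or.inr rfl, Or.inr rfl, fun v hv hv0 x hx hx0 hvx hb => ?_⟩
      exact absurd ⟨v, hv, x, hx, hv0, hx0, hvx, hb⟩ hex
  have hTcomm : ∀ {v : Vec} {a : F} {y : Γ}, v ∈ cut W e f → σ y = Eh e v a → Commute T y := fun {v a y} hv hy => by
    rcases hT1 with hT1 | hT1
    · exact eh_commute hc horth (B_self e) (cut_perp_left hv) hs hT1 hy
    · rw [hT1]; exact Commute.one_left y
  have hTU : ∀ g : Γ, σ g ∈ GW (cut W e f) → Commute T g := fun g hg => by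
    rcases hT1 with hT1 | hT1
    · exact gw_commute hs hc horth (fun u hu => cut_perp_left hu) hT1 hg
    · rw [hT1]; exact Commute.one_left g
  have hprod' : ∀ v ∈ cut W e f, v ≠ 0 → ∀ x ∈ cut W e f, x ≠ 0 → v ≠ x → B v x = 0 →
      E' v * E' x = T * E' (v + x) := fun v hv hv0 x hx hx0 hvx hb => by
    have hs1 := (cut W e f).add_mem hv hx
    have hs0 : v + x ≠ 0 := fun h0 => hvx (by rw [eq_neg_of_add_eq_zero_left h0, hneg])
    rw [← hT v hv hv0 x hx hx0 hvx hb, mul_assoc _ (E' (v + x)), hsq _ hs1 hs0, mul_one]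
  have hTT : T * T = 1 := by
    rcases hT2 with ⟨v, hv, x, hx, hv0, hx0, hvx, hb⟩ | hT2
    · have hs1 := (cut W e f).add_mem hv hx
      have hs0 : v + x ≠ 0 := fun h0 => hvx (by rw [eq_neg_of_add_eq_zero_left h0, hneg])
      have ha := hsq v hv hv0
      have hb' := hsq x hx hx0
      have hc' := hsq _ hs1 hs0
      have cab : Commute (E' v) (E' x) := hcomm v hv hv0 x hx hx0
      have cc : Commute (E' v * E' x) (E' (v + x)) :=
        (hcomm v hv hv0 _ hs1 hs0).mul_left (hcomm x hx hx0 _ hs1 hs0)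
      rw [← hT v hv hv0 x hx hx0 hvx hb]
      calc E' v * E' x * E' (v + x) * (E' v * E' x * E' (v + x))
          = E' v * E' x * (E' (v + x) * (E' v * E' x)) * E' (v + x) := by group
        _ = E' v * (E' x * E' v) * E' x * (E' (v + x) * E' (v + x)) := by rw [← cc.eq]; group
        _ = E' v * E' v * (E' x * E' x) := by rw [← cab.eq, hc', mul_one]; group
        _ = 1 := by rw [ha, hb', mul_one]
    · rw [hT2, mul_one]
  let Y : Γ → Prop := fun y => y = 1 ∨ ∃ v ∈ cut W e f, v ≠ 0 ∧ y = E' v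
  have hYT : ∀ {y}, Y y → Commute T y := fun {y} hy => by
    rcases hy with rfl | ⟨v, hv, hv0, rfl⟩
    · exact Commute.one_right T
    · exact hTcomm hv (E'_map v hv hv0)
  have hYY : ∀ {y y'}, Y y → Y y' → ∃ (ε y'' : Γ), (ε = 1 ∨ ε = T) ∧ Y y'' ∧ y * y' = ε * y'' := by
    rintro y y' (rfl | ⟨v, hv, hv0, rfl⟩) hy'
    · exact ⟨1, y', Or.inl rfl, hy', rfl⟩
    rcases hy' with rfl | ⟨w, hw, hw0, rfl⟩
    · exact ⟨1, E' v, Or.inl rfl, Or.inr ⟨v, hv, hv0, rfl⟩, by simp⟩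
    by_cases hvw : v = w
    · subst hvw; exact ⟨1, 1, Or.inl rfl, Or.inl rfl, by rw [hsq v hv hv0, one_mul]⟩
    have hs1 := (cut W e f).add_mem hv hw
    have hs0 : v + w ≠ 0 := fun h0 => hvw (by rw [eq_neg_of_add_eq_zero_left h0, hneg])
    rcases h01 (B v w) with hb | hb
    · exact ⟨T, E' (v + w), Or.inr rfl, Or.inr ⟨_, hs1, hs0, rfl⟩, hprod' v hv hv0 w hw hw0 hvw hb⟩
    · exact ⟨1, E' (v + w), Or.inl rfl, Or.inr ⟨_, hs1, hs0, rfl⟩, by rw [one_mul, hprod v hv w hw hb]⟩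
  have hεε : ∀ {ε ε' : Γ}, (ε = 1 ∨ ε = T) → (ε' = 1 ∨ ε' = T) → (ε * ε' = 1 ∨ ε * ε' = T) := by
    rintro ε ε' (rfl | rfl) (rfl | rfl) <;> simp [hTT]
  refine ⟨{ carrier := {n | ∃ ε y, (ε = 1 ∨ ε = T) ∧ Y y ∧ n = ε * y}
            one_mem' := ⟨1, 1, Or.inl rfl, Or.inl rfl, (one_mul 1).symm⟩
            mul_mem' := ?_
            inv_mem' := ?_ }, ?_, ?_, ?_, ?_⟩
  · rintro _ _ ⟨ε, y, hε, hy, rfl⟩ ⟨ε', y', hε', hy', rfl⟩
    obtain ⟨ε'', y'', hε'', hy'', hmul⟩ := hYY hy hy'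
    refine ⟨ε * ε' * ε'', y'', hεε (hεε hε hε') hε'', hy'', ?_⟩
    have hc1 : y * ε' = ε' * y := by
      rcases hε' with rfl | rfl
      · rw [mul_one, one_mul]
      · exact (hYT hy).eq.symm
    calc ε * y * (ε' * y') = ε * (y * ε') * y' := by group
      _ = ε * ε' * (y * y') := by rw [hc1]; group
      _ = _ := by rw [hmul]; group
  · rintro _ ⟨ε, y, hε, hy, rfl⟩
    refine ⟨ε, y, hε, hy, ?_⟩
    have hy2 : y⁻¹ = y := by
      rcases hy with rfl | ⟨v, hv, hv0, rfl⟩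
      · exact inv_one
      · exact inv_eq_of_mul_eq_one_right (hsq v hv hv0)
    rcases hε with rfl | rfl
    · rw [one_mul, hy2]
    · rw [_root_.mul_inv_rev, hy2, inv_eq_of_mul_eq_one_right hTT, (hYT hy).eq]
  · rintro _ ⟨ε, y, hε, hy, rfl⟩ hn
    rcases hy with rfl | ⟨v, hv, hv0, rfl⟩
    · rcases hε with rfl | rfl
      · rw [one_mul]
      · rcases hT1 with hT1 | hT1
        · rw [mul_one, hT1, ← Eh_zero] at hn
          exact absurd (Eh_eq_one_of_fix h (cut W e f).zero_mem (by rw [hn, SympGen.one_apply])).2 one_ne_zero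
        · rw [hT1, one_mul]
    · exfalso
      obtain ⟨b, hb⟩ : ∃ b : F, σ (ε * E' v) = Eh e v b := by
        rcases hε with rfl | rfl
        · exact ⟨1, by rw [one_mul, E'_map v hv hv0]⟩
        · rcases hT1 with hT1 | hT1
          · exact ⟨_, by rw [map_mul, hT1, E'_map v hv hv0, ← Eh_zero,
              Eh_mul (B_zero_right e) (cut_perp_left hv), zero_add]⟩
          · exact ⟨1, by rw [hT1, one_mul, E'_map v hv hv0]⟩
      rw [hb] at hn
      exact hv0 (Eh_eq_one_of_fix h hv (by rw [hn, SympGen.one_apply])).1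
  · rintro _ ⟨ε, y, hε, hy, rfl⟩
    obtain ⟨t, ht⟩ : ∃ t : F, σ ε = tv e t := by
      rcases hε with rfl | rfl
      · exact ⟨0, by rw [map_one, tv_zero]⟩
      · rcases hT1 with hT1 | hT1
        · exact ⟨1, hT1⟩
        · exact ⟨0, by rw [hT1, map_one, tv_zero]⟩
    rcases hy with rfl | ⟨v, hv, hv0, rfl⟩
    · exact ⟨0, (cut W e f).zero_mem, t, by rw [mul_one, ht, Eh_zero]⟩
    · exact ⟨v, hv, t + 1 + B v 0, by
        rw [map_mul, ht, E'_map v hv hv0, ← Eh_zero, Eh_mul (B_zero_right e) (cut_perp_left hv), zero_add]⟩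
  · rintro g hg _ ⟨ε, y, hε, hy, rfl⟩
    have hεg : Commute ε g := by
      rcases hε with rfl | rfl
      · exact Commute.one_left g
      · exact hTU g hg
    rcases hy with rfl | ⟨v, hv, hv0, rfl⟩
    · exact ⟨ε, 1, hε, Or.inl rfl, by rw [mul_one, ← hεg.eq, mul_inv_cancel_right]⟩
    · refine ⟨ε, E' ((σ g).1 *ᵥ v), hε, Or.inr ⟨_, (GW_props hg).2 v hv, hne hv0, rfl⟩, ?_⟩
      rw [← E'_conj g hg v hv hv0, ← mul_assoc g, ← hεg.eq]; group
  · intro v hv a x hx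
    by_cases hv0 : v = 0
    · exact ⟨1, ⟨1, 1, Or.inl rfl, Or.inl rfl, (one_mul 1).symm⟩, a, by rw [inv_one, one_mul, hx, hv0, Eh_zero]⟩
    · refine ⟨E' v, ⟨1, E' v, Or.inl rfl, Or.inr ⟨v, hv, hv0, rfl⟩, (one_mul _).symm⟩, a - 1, ?_⟩
      rw [map_mul, map_inv, E'_map v hv hv0, hx, inv_mul_eq_iff_eq_mul, ← Eh_zero,
        Eh_mul (cut_perp_left hv) (B_zero_right e), add_zero, B_zero_left, add_zero, add_sub_cancel]

end Radical

theorem key_p (p : ℕ) [CharP F p] [Fact p.Prime] (hK : IsPGroup p σ.ker) {W : Submodule F Vec} (hW : ND W) :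
    ∀ z, σ z = 1 → z ∈ ⁅(GW W).comap σ, (GW W).comap σ⁆ → z = 1 := by
  refine cut_induction (P := fun W => ∀ z, σ z = 1 → z ∈ ⁅(GW W).comap σ, (GW W).comap σ⁆ → z = 1) ?_ ?_ hW
  · intro z _ hz
    have h1 : GW (⊥ : Submodule F Vec) = ⊥ := by
      rw [GW, Subgroup.closure_eq_bot_iff]
      rintro _ ⟨u, hu, c, rfl⟩
      rw [(Submodule.mem_bot F).mp hu, tv_zero_vec]; rfl
    rw [h1] at hz
    have : ⁅(⊥ : Subgroup Sp).comap σ, (⊥ : Subgroup Sp).comap σ⁆ = ⊥ := by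
      rw [Subgroup.commutator_eq_bot_iff_le_centralizer]
      intro a ha b _
      exact ker_comm hc (Subgroup.mem_bot.mp ha) b
    rw [this] at hz
    exact Subgroup.mem_bot.mp hz
  · intro W e f hW he hf h ih
    refine step_complement hs hc horth p hK hW he hf h ih ?_
    by_cases hU : ∀ v ∈ cut W e f, v = 0
    · exact complement_of_empty hs hc horth hU
    push Not at hU
    obtain ⟨e₁, he₁, he₁0⟩ := hU
    obtain ⟨f₁, hf₁, h₁⟩ := exists_partner (cut_ND hW he hf h) he₁ he₁0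
    obtain ⟨L, hL⟩ : ∃ L : Sp → Γ, ∀ g, σ (L g) = g := hs.hasRightInverse
    by_cases hp : p = 2
    · subst hp
      have h2 : (2 : F) = 0 := by exact_mod_cast CharP.cast_eq_zero F 2
      rcases le_or_gt 4 (Nat.card F) with h4 | h4
      · exact complement_even hs hc horth hL h2 h4 hW he hf h he₁ hf₁ h₁
      · refine complement_two hs hc horth hL (fun x => ?_) hW he hf h he₁ hf₁ h₁
        classical
        haveI := Fintype.ofFinite F
        by_contra hx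
        push Not at hx
        -- a third element `x`, and then `x + 1` is a fourth
        have hx1 : x + 1 ≠ 0 ∧ x + 1 ≠ 1 ∧ x + 1 ≠ x := ⟨fun h => hx.2 (by linear_combination h - h2),
          fun h => hx.1 (by linear_combination h), fun h => one_ne_zero (α := F) (by linear_combination h)⟩
        have := Finset.card_le_univ ({0, 1, x, x + 1} : Finset F)
        rw [Finset.card_insert_of_notMem (by simp [Ne.symm hx.1, Ne.symm hx1.1]),
          Finset.card_insert_of_notMem (by simp [Ne.symm hx.2, Ne.symm hx1.2.1]),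
          Finset.card_insert_of_notMem (by simp [Ne.symm hx1.2.2]),
          Finset.card_singleton, ← Nat.card_eq_fintype_card] at this
        omega
    · exact complement_odd hs hc horth hL p hK hp hW he hf h he₁ hf₁ h₁

end CfsgLib.SpCover
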