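import Cfsg.Agent.Lib.SpCover.Geom
import Cfsg.Agent.Lib.SpCover.Central
import Cfsg.Agent.Lib.SLCard
import Cfsg.Agent.Lib.SchurSmall
import Cfsg.Agent.Lib.StSL.Small
import Cfsg.Agent.S2117
import Cfsg.Agent.S2118

/-!
Lifts of elements of exponent the characteristic through central extensions with kernel of coprime order,
and the case of a symplectic plane, where the group is `SL₂`.
-/

set_option autoImplicit false
set_option linter.unusedSectionVars false

namespace CfsgLib.SpCover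

open Matrix
open scoped commutatorElement MatrixGroups
open CfsgLib.SympGen (B B_self B_swap B_add_left B_add_right B_sub_left B_sub_right B_smul_left
  B_smul_right B_map tv_apply conj_tv tv_smul tv_add)
open CfsgLib.SympTransvection (tv)
open CfsgLib.SympSimple (ext_apply tv_zero tv_zero_vec tv_inv)

universe u v w

section Lifts

variable {Γ : Type v} {G : Type w} [Group Γ] [Finite Γ] [Group G] {σ : Γ →* G}
variable (hc : σ.ker ≤ Subgroup.center Γ) {p : ℕ} (hco : (Nat.card σ.ker).Coprime p)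
include hc hco

/-- A lift killed by `p` is unique. -/
theorem lift_unique {x y : Γ} (h : σ x = σ y) (hx : x ^ p = 1) (hy : y ^ p = 1) : x = y := by
  have hk : σ (x⁻¹ * y) = 1 := by rw [map_mul, map_inv, h, inv_mul_cancel]
  have hcm : Commute x (x⁻¹ * y) := ker_comm hc hk x
  have h1 : (x⁻¹ * y) ^ p = 1 := by
    have h2 := hcm.mul_pow p
    rw [mul_inv_cancel_left, hy, hx, one_mul] at h2
    exact h2.symm
  have h2 : (x⁻¹ * y) ^ Nat.card σ.ker = 1 := by
    have := pow_card_eq_one' (x := (⟨x⁻¹ * y, hk⟩ : σ.ker))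
    exact congrArg Subtype.val this
  exact inv_mul_eq_one.mp (eq_one_of_coprime hco h2 h1)

theorem lift_exists (hs : Function.Surjective σ) {g : G} (hg : g ^ p = 1) : ∃ x, σ x = g ∧ x ^ p = 1 := by
  obtain ⟨x, rfl⟩ := hs g
  obtain ⟨n, hn1, hn2⟩ := Nat.chineseRemainder hco 0 1
  refine ⟨x ^ n, ?_, ?_⟩
  · rw [map_pow, pow_eq_pow_mod n hg, Nat.ModEq] at *
    rw [hn2, ← pow_eq_pow_mod 1 hg, pow_one]
  · obtain ⟨t, ht⟩ := Nat.modEq_zero_iff_dvd.mp hn1
    have hk : σ (x ^ p) = 1 := by rw [map_pow, hg]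
    have := congrArg Subtype.val (pow_card_eq_one' (x := (⟨x ^ p, hk⟩ : σ.ker)))
    rw [← pow_mul, ht, show Nat.card σ.ker * t * p = p * Nat.card σ.ker * t by ring, pow_mul, pow_mul]
    show ((x ^ p) ^ Nat.card σ.ker) ^ t = 1
    rw [show (x ^ p) ^ Nat.card σ.ker = 1 from this, one_pow]

variable {P : G → Γ} (hP : ∀ g, g ^ p = 1 → σ (P g) = g ∧ P g ^ p = 1)
include hP

theorem P_eq {x : Γ} {g : G} (h : σ x = g) (hx : x ^ p = 1) : x = P g := by
  have hg : g ^ p = 1 := by rw [← h, ← map_pow, hx, map_one]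
  exact lift_unique hc hco (by rw [h, (hP g hg).1]) hx (hP g hg).2

theorem P_one : P 1 = 1 := (P_eq hc hco hP (map_one σ) (one_pow p)).symm

theorem P_inv {g : G} (hg : g ^ p = 1) : (P g)⁻¹ = P g⁻¹ :=
  P_eq hc hco hP (by rw [map_inv, (hP g hg).1]) (by rw [inv_pow, (hP g hg).2, inv_one])

theorem P_conj {g : G} (hg : g ^ p = 1) (γ : Γ) : γ * P g * γ⁻¹ = P (σ γ * g * (σ γ)⁻¹) :=
  P_eq hc hco hP (by rw [map_mul, map_mul, map_inv, (hP g hg).1]) (by rw [conj_pow, (hP g hg).2, mul_one, mul_inv_cancel])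

theorem P_commute {g h : G} (hg : g ^ p = 1) (hh : h ^ p = 1) (hgh : Commute g h) : Commute (P g) (P h) := by
  have := P_conj hc hco hP hh (P g)
  rw [(hP g hg).1, hgh.eq, mul_inv_cancel_right] at this
  exact mul_inv_eq_iff_eq_mul.mp this

theorem P_mul {g h : G} (hg : g ^ p = 1) (hh : h ^ p = 1) (hgh : Commute g h) : P g * P h = P (g * h) :=
  P_eq hc hco hP (by rw [map_mul, (hP g hg).1, (hP h hh).1])
    (by rw [(P_commute hc hco hP hg hh hgh).mul_pow, (hP g hg).2, (hP h hh).2, one_mul])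

/-- The lifts are multiplicative on a subgroup of exponent `p`. -/
theorem P_mul_of_exponent [Finite G] [Fact p.Prime] (H : Subgroup G) (hH : ∀ h ∈ H, h ^ p = 1) {g h : G}
    (hg : g ∈ H) (hh : h ∈ H) : P g * P h = P (g * h) := by
  let N : Subgroup (H.comap σ) := σ.ker.subgroupOf (H.comap σ)
  have hker : σ.ker ≤ H.comap σ := fun x hx => by
    show σ x ∈ H
    rw [MonoidHom.mem_ker.mp hx]; exact one_mem H
  haveI : N.Normal := Subgroup.normal_subgroupOf
  let r : H.comap σ →* H := σ.subgroupComap H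
  have hrker : r.ker = N := Subgroup.ext fun x => by
    rw [MonoidHom.mem_ker, Subgroup.mem_subgroupOf, MonoidHom.mem_ker]
    exact Subtype.ext_iff
  have hidx : ∃ k, N.index ∣ p ^ k := by
    have hp : IsPGroup p H := fun x => ⟨1, by rw [pow_one]; exact Subtype.ext (hH x.1 x.2)⟩
    obtain ⟨k, hk⟩ := IsPGroup.iff_card.mp hp
    exact ⟨k, hk ▸ hrker ▸ (Subgroup.index_ker r).symm ▸ Subgroup.card_subgroup_dvd_card r.range⟩
  obtain ⟨k, hk⟩ := hidx
  have hcardN : Nat.card N = Nat.card σ.ker := Nat.card_congr (Subgroup.subgroupOfEquivOfLe hker).toEquiv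
  obtain ⟨C, hC⟩ := Subgroup.exists_right_complement'_of_coprime (N := N)
    (Nat.Coprime.coprime_dvd_right hk (by rw [hcardN]; exact hco.pow_right k))
  have hlift : ∀ g ∈ H, ∃ c ∈ C, σ (c : H.comap σ).1 = g ∧ P g = c.1 := by
    intro g hg
    have hgp := hH g hg
    obtain ⟨⟨n, c⟩, hnc⟩ := hC.2 ⟨P g, show σ (P g) ∈ H by rw [(hP g hgp).1]; exact hg⟩
    have hσc : σ (c.1).1 = g := by
      have h1 := congrArg (fun y : H.comap σ => σ y.1) hnc
      simp only [Subgroup.coe_mul, map_mul, MonoidHom.mem_ker.mp (Subgroup.mem_subgroupOf.mp n.2), one_mul,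
        (hP g hgp).1] at h1
      exact h1
    have hcp : (c.1) ^ p = 1 := by
      have h1 : c.1 ^ p ∈ N := Subgroup.mem_subgroupOf.mpr (by
        rw [MonoidHom.mem_ker, SubgroupClass.coe_pow, map_pow, hσc, hgp])
      have := hC.disjoint
      exact Subgroup.disjoint_def.mp this h1 (C.pow_mem c.2 p)
    exact ⟨c.1, c.2, hσc, (P_eq hc hco hP hσc (congrArg Subtype.val hcp)).symm⟩
  obtain ⟨a, ha, hσa, hPa⟩ := hlift g hg
  obtain ⟨b, hb, hσb, hPb⟩ := hlift h hh
  obtain ⟨c, hc', hσc, hPc⟩ := hlift _ (mul_mem hg hh)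
  have hab : (a * b) * c⁻¹ = 1 := by
    refine Subgroup.disjoint_def.mp hC.disjoint ?_ (mul_mem (mul_mem ha hb) (inv_mem hc'))
    rw [Subgroup.mem_subgroupOf, MonoidHom.mem_ker]
    push_cast
    rw [map_mul, map_mul, map_inv, hσa, hσb, hσc, mul_inv_cancel]
  rw [hPa, hPb, hPc, ← mul_inv_eq_one]
  exact congrArg Subtype.val hab

end Lifts

variable {F : Type u} [Field F] [Finite F] {m : ℕ}

/-- A stem extension of `SL₂` with kernel of order prime to the characteristic is trivial. -/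
theorem SL2_coprime (p : ℕ) [CharP F p] [Fact p.Prime] {Γ : Type u} [Group Γ] [Finite Γ] {σ : Γ →* SL(2, F)}
    (hσ : Cfsg.IsStemExtension σ) (hco : (Nat.card σ.ker).Coprime p) : σ.ker = ⊥ := by
  classical
  haveI := Fintype.ofFinite F
  have hz : ∀ n : ℕ, (∀ z ∈ σ.ker, z ^ n = 1) → n.Coprime (Nat.card σ.ker) → σ.ker = ⊥ := fun n h hn => by
    rw [Subgroup.eq_bot_iff_forall]
    exact fun z hz => eq_one_of_coprime hn (h z hz) (congrArg Subtype.val (pow_card_eq_one' (x := (⟨z, hz⟩ : σ.ker))))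
  obtain ⟨⟨k, hk⟩, hpr, hcard⟩ := FiniteField.card F p
  by_cases h4 : Fintype.card F = 4
  · have hp2 : p = 2 := (Nat.prime_dvd_prime_iff_eq hpr Nat.prime_two).mp
      (hpr.dvd_of_dvd_pow (n := 2) (show p ∣ 2 ^ 2 by rw [show (2 : ℕ) ^ 2 = Fintype.card F by rw [h4]; rfl, hcard]; exact dvd_pow_self p (by simp at hk ⊢; omega)))
    have h60 : Nat.card SL(2, F) = 60 := by rw [CfsgLib.SLCard.card_SL_two, h4]; rfl
    haveI : Fact (Nat.Prime 3) := ⟨Nat.prime_three⟩
    haveI : Fact (Nat.Prime 5) := ⟨Nat.prime_five⟩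
    obtain ⟨a, ha⟩ := exists_prime_orderOf_dvd_card' (G := SL(2, F)) 3 (by rw [h60]; norm_num)
    obtain ⟨b, hb⟩ := exists_prime_orderOf_dvd_card' (G := SL(2, F)) 5 (by rw [h60]; norm_num)
    have ia : (Subgroup.zpowers a).index = 20 := by
      have := (Subgroup.zpowers a).card_mul_index
      rw [Nat.card_zpowers, ha, h60] at this
      omega
    have ib : (Subgroup.zpowers b).index = 12 := by
      have := (Subgroup.zpowers b).card_mul_index
      rw [Nat.card_zpowers, hb, h60] at this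
      omega
    refine hz 4 (fun z hzk => ?_) ?_
    · have e1 := CfsgLib.StSL.pow_index_eq_one_of_cyclic hσ a hzk
      have e2 := CfsgLib.StSL.pow_index_eq_one_of_cyclic hσ b hzk
      rw [ia] at e1
      rw [ib] at e2
      rw [← orderOf_dvd_iff_pow_eq_one] at e1 e2 ⊢
      exact (Nat.dvd_gcd e1 e2 : orderOf z ∣ Nat.gcd 20 12)
    · rw [hp2] at hco
      exact (hco.pow_right 2).symm
  by_cases h9 : Fintype.card F = 9
  · have hp3 : p = 3 := (Nat.prime_dvd_prime_iff_eq hpr Nat.prime_three).mp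
      (hpr.dvd_of_dvd_pow (n := 2) (show p ∣ 3 ^ 2 by rw [show (3 : ℕ) ^ 2 = Fintype.card F by rw [h9]; rfl, hcard]; exact dvd_pow_self p (by simp at hk ⊢; omega)))
    obtain ⟨π, hπ⟩ := (Cfsg.Agent.S2118.result h9).2 Γ σ hσ
    refine hz 3 (fun z hzk => ?_) (hp3 ▸ hco.symm)
    obtain ⟨a, ha⟩ := hπ ⟨z, hzk⟩
    have h1 : (⟨z, hzk⟩ : σ.ker) ^ 3 = 1 := by
      rw [← ha, ← map_pow, show a ^ 3 = 1 from
        orderOf_dvd_iff_pow_eq_one.mp ((orderOf_dvd_natCard a).trans (by rw [Nat.card_congr Multiplicative.toAdd, Nat.card_zmod])), map_one]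
    exact congrArg Subtype.val h1
  exact CfsgLib.SchurSmall.ker_eq_bot_of_trivial (Cfsg.Agent.S2117.result h4 h9) σ hσ

/-- Coordinates of an element on a hyperbolic pair. -/
def coord (a b : Fin m ⊕ Fin m → F) (g : Matrix.symplecticGroup (Fin m) F) : Matrix (Fin 2) (Fin 2) F :=
  !![B (g.1 *ᵥ a) b, B (g.1 *ᵥ b) b; -B (g.1 *ᵥ a) a, -B (g.1 *ᵥ b) a]

variable {W : Submodule F (Fin m ⊕ Fin m → F)} {a b : Fin m ⊕ Fin m → F}

theorem plane_expand (ha : a ∈ W) (hb : b ∈ W) (h : B a b = 1) (hcut : cut W a b = ⊥)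
    {y : Fin m ⊕ Fin m → F} (hy : y ∈ W) : y = B y b • a - B y a • b := by
  have h1 := proj_mem ha hb h hy
  rw [hcut, Submodule.mem_bot] at h1
  rw [sub_add, sub_eq_zero] at h1
  exact h1

theorem coord_mul (ha : a ∈ W) (hb : b ∈ W) (h : B a b = 1) (hcut : cut W a b = ⊥)
    {g k : Matrix.symplecticGroup (Fin m) F} (hk : k ∈ GW W) :
    coord a b (g * k) = coord a b g * coord a b k := by
  have e : ∀ y ∈ W, (g * k).1 *ᵥ y = B (k.1 *ᵥ y) b • (g.1 *ᵥ a) - B (k.1 *ᵥ y) a • (g.1 *ᵥ b) := fun y hy => by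
    rw [SympGen.mul_apply]
    conv_lhs => rw [plane_expand ha hb h hcut ((GW_props hk).2 y hy)]
    rw [Matrix.mulVec_sub, Matrix.mulVec_smul, Matrix.mulVec_smul]
  rw [coord, coord, coord, e a ha, e b hb, Matrix.mul_fin_two]
  simp only [B_sub_left, B_smul_left]
  congr 1
  ext i j
  fin_cases i <;> fin_cases j <;> simp <;> ring

theorem coord_det (ha : a ∈ W) (hb : b ∈ W) (h : B a b = 1) (hcut : cut W a b = ⊥)
    {g : Matrix.symplecticGroup (Fin m) F} (hg : g ∈ GW W) : (coord a b g).det = 1 := by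
  have ea := plane_expand ha hb h hcut ((GW_props hg).2 a ha)
  have eb := plane_expand ha hb h hcut ((GW_props hg).2 b hb)
  have h1 : B (g.1 *ᵥ a) (g.1 *ᵥ b) = 1 := by rw [B_map, h]
  rw [coord, Matrix.det_fin_two_of]
  conv_rhs => rw [← h1, ea, eb]
  simp only [B_sub_left, B_sub_right, B_smul_left, B_smul_right, B_self, h, B_swap b a]
  ring

variable {Γ : Type u} [Group Γ] [Finite Γ] {σ : Γ →* Matrix.symplecticGroup (Fin m) F}

/-- The group generated by the lifts of the transvections of a plane meets the kernel trivially. -/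
theorem plane_trivial (hc : σ.ker ≤ Subgroup.center Γ) (p : ℕ) [CharP F p] [Fact p.Prime]
    (hco : (Nat.card σ.ker).Coprime p) (hW : ND W) (ha : a ∈ W) (hb : b ∈ W) (h : B a b = 1)
    (hcut : cut W a b = ⊥) {S : Set Γ} (hS : ∀ x ∈ S, x ^ p = 1)
    (hσS : ∀ x ∈ S, σ x ∈ GW W) (hgen : ∀ u ∈ W, ∀ c : F, ∃ x ∈ S, σ x = tv u c) :
    ∀ z ∈ Subgroup.closure S, σ z = 1 → z = 1 := by
  classical
  set X := Subgroup.closure S with hX
  have hXW : ∀ x ∈ X, σ x ∈ GW W := fun x hx =>
    (Subgroup.closure_le ((GW W).comap σ)).mpr hσS hx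
  let φ : X →* SL(2, F) :=
    MonoidHom.mk' (fun x => ⟨coord a b (σ x.1), coord_det ha hb h hcut (hXW _ x.2)⟩) fun x y =>
      Subtype.ext (by
        show coord a b (σ (x.1 * y.1)) = coord a b (σ x.1) * coord a b (σ y.1)
        rw [map_mul, coord_mul ha hb h hcut (hXW _ y.2)])
  have hsurj : Function.Surjective φ := by
    intro A
    refine SL2.transvection_induction (fun A => ∃ x, φ x = A) (fun i j hij c => ?_)
      (fun A B' ⟨x, hx⟩ ⟨y, hy⟩ => ⟨x * y, by rw [map_mul, hx, hy]⟩) A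
    have hba : B b a = -1 := by rw [B_swap, h]
    obtain ⟨x, hx, hσx⟩ : ∃ x ∈ S, coord a b (σ x) = Matrix.transvection i j c := by
      fin_cases i <;> fin_cases j
      · exact absurd rfl hij
      · obtain ⟨x, hx, hσx⟩ := hgen a ha (-c)
        refine ⟨x, hx, ?_⟩
        ext i j
        fin_cases i <;> fin_cases j <;>
          simp [coord, hσx, tv_apply, B_add_left, B_smul_left, B_self, h, hba, Matrix.transvection, Matrix.single_apply]
      · obtain ⟨x, hx, hσx⟩ := hgen b hb c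
        refine ⟨x, hx, ?_⟩
        ext i j
        fin_cases i <;> fin_cases j <;>
          simp [coord, hσx, tv_apply, B_add_left, B_smul_left, B_self, h, hba, Matrix.transvection, Matrix.single_apply]
      · exact absurd rfl hij
    exact ⟨⟨x, Subgroup.subset_closure hx⟩, Subtype.ext hσx⟩
  have hker : ∀ x : X, φ x = 1 → σ x.1 = 1 := by
    intro x hx
    have h0 : coord a b (σ x.1) = 1 := congrArg Subtype.val hx
    obtain ⟨g1, g2⟩ := GW_props (hXW _ x.2)
    have ea := plane_expand ha hb h hcut (g2 a ha)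
    have eb := plane_expand ha hb h hcut (g2 b hb)
    have e00 := congrFun (congrFun h0 0) 0
    have e01 := congrFun (congrFun h0 0) 1
    have e10 := congrFun (congrFun h0 1) 0
    have e11 := congrFun (congrFun h0 1) 1
    simp [coord] at e00 e01 e10 e11
    rw [e00, e10, one_smul, zero_smul, sub_zero] at ea
    rw [e01, neg_eq_iff_eq_neg.mp e11, zero_smul, zero_sub, neg_one_smul, neg_neg] at eb
    obtain ⟨c1, -⟩ := fix_cut ha hb h g1 g2 ea eb
    refine ext_apply fun y => ?_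
    rw [SympGen.one_apply]
    exact c1 y fun w hw => by rw [hcut, Submodule.mem_bot] at hw; rw [hw, B_zero_right]
  have hstem : Cfsg.IsStemExtension φ := by
    refine ⟨hsurj, fun x hx => Subgroup.mem_center_iff.mpr fun y => Subtype.ext
      (Subgroup.mem_center_iff.mp (hc (hker x (MonoidHom.mem_ker.mp hx))) y.1), fun x hx => ?_⟩
    let ψ : X →* Abelianization X := (powMonoidHom p).comp Abelianization.of
    have hψ : ψ.ker = ⊤ := by
      rw [eq_top_iff, ← Subgroup.closure_closure_coe_preimage (k := S), Subgroup.closure_le]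
      intro y hy
      show (Abelianization.of y) ^ p = 1
      rw [← map_pow, show y ^ p = 1 from Subtype.ext (hS y.1 hy), map_one]
    have h1 : x ^ p ∈ commutator X := by
      rw [← Abelianization.ker_of, MonoidHom.mem_ker, map_pow]
      exact (show x ∈ ψ.ker by rw [hψ]; trivial)
    have hk : σ x.1 = 1 := hker x (MonoidHom.mem_ker.mp hx)
    have hord : p.Coprime (orderOf x) := by
      rw [← Subgroup.orderOf_coe, ← show orderOf (⟨x.1, hk⟩ : σ.ker) = orderOf x.1 from (Subgroup.orderOf_coe _).symm]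
      exact hco.symm.coprime_dvd_right (orderOf_dvd_natCard _)
    obtain ⟨n, hn⟩ := exists_pow_eq_self_of_coprime hord
    rw [← hn]
    exact Subgroup.pow_mem _ h1 n
  have hco' : (Nat.card φ.ker).Coprime p := by
    refine hco.coprime_dvd_left ?_
    let i : φ.ker →* σ.ker :=
      MonoidHom.mk' (fun x => ⟨x.1.1, hker x.1 (MonoidHom.mem_ker.mp x.2)⟩) fun x y => rfl
    exact Subgroup.card_dvd_of_injective i fun x y hxy => Subtype.ext (Subtype.ext (congrArg (fun z : σ.ker => z.1) hxy))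
  have := SL2_coprime p hstem hco'
  intro z hz hσz
  have hmem : (⟨z, hz⟩ : X) ∈ φ.ker := MonoidHom.mem_ker.mpr (Subtype.ext (by
    show coord a b (σ z) = 1
    rw [hσz, coord, SympGen.one_apply, SympGen.one_apply, h, B_self, B_self, B_swap b a, h]
    ext i j
    fin_cases i <;> fin_cases j <;> simp))
  rw [this, Subgroup.mem_bot] at hmem
  exact congrArg Subtype.val hmem

end CfsgLib.SpCover
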